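import Mathlib
import Cfsg.Agent.Lib.SharplyK.Four

/-!
4-transitive groups whose four-point stabilisers have odd order: involutions.
-/

set_option autoImplicit false
set_option linter.unusedSectionVars false

namespace Cfsg.Agent.Lib.FourOdd

open MulAction Finset

universe u v

variable {G : Type u} [Group G] [Finite G] {α : Type v} [MulAction G α]

/-- Elements fixing four points have odd order. -/
def OddFour (G : Type u) [Group G] (α : Type v) [MulAction G α] : Prop :=
  ∀ (g : G) (a b c d : α), a ≠ b → a ≠ c → a ≠ d → b ≠ c → b ≠ d → c ≠ d →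
    g • a = a → g • b = b → g • c = c → g • d = d → Odd (orderOf g)

theorem eq_one_of_sq_of_odd {g : G} (h : g * g = 1) (hodd : Odd (orderOf g)) : g = 1 := by
  have h1 : orderOf g ∣ 2 := orderOf_dvd_of_pow_eq_one (by rw [pow_two, h])
  rcases (Nat.dvd_prime Nat.prime_two).mp h1 with h2 | h2
  · exact orderOf_eq_one_iff.mp h2
  · rw [h2] at hodd; exact absurd hodd (by decide)

theorem smul_smul_of_sq {g : G} (h : g * g = 1) (x : α) : g • g • x = x := by
  rw [← mul_smul, h, one_smul]

theorem pow_two_mul_smul {g : G} {a : α} (h : g • g • a = a) (j : ℕ) : g ^ (2 * j) • a = a := by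
  rw [pow_mul]
  induction j with
  | zero => simp
  | succ j ih => rw [pow_succ, mul_smul, pow_two, mul_smul, h, ← pow_two, ih]

theorem pow_odd_smul {g : G} {a : α} (h : g • g • a = a) {k : ℕ} (hk : Odd k) :
    g ^ k • a = g • a := by
  obtain ⟨j, rfl⟩ := hk
  have h' : g • g • (g • a) = g • a := by rw [h]
  rw [pow_succ, mul_smul, pow_two_mul_smul h']

/-- Two involutions whose product has odd order are conjugate by a power of the product. -/
theorem exists_conj_of_odd {u u' : G} (hu : u * u = 1) (hu' : u' * u' = 1)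
    (hodd : Odd (orderOf (u * u'))) :
    ∃ x ∈ Subgroup.zpowers (u * u'), x * u * x⁻¹ = u' := by
  have huinv : u⁻¹ = u := inv_eq_of_mul_eq_one_right hu
  have hu'inv : u'⁻¹ = u' := inv_eq_of_mul_eq_one_right hu'
  set w := u * u' with hw
  set m := (orderOf w + 1) / 2 with hm
  obtain ⟨j, hj⟩ := hodd
  set x := (w⁻¹) ^ m with hx
  refine ⟨x, by rw [hx, inv_pow]; exact inv_mem (Subgroup.pow_mem _ (Subgroup.mem_zpowers w) m), ?_⟩
  have hconj : u * w * u⁻¹ = w⁻¹ := by
    rw [hw, mul_inv_rev, huinv, hu'inv, ← mul_assoc u u u', hu, one_mul]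
  have hxu : u * x * u⁻¹ = x⁻¹ := by
    rw [hx, ← conj_pow, inv_pow, inv_inv, ← MulAut.conj_apply, map_inv, MulAut.conj_apply, hconj,
      inv_inv]
  have hx2 : x * x = w⁻¹ := by
    have h1 : m + m = orderOf w + 1 := by omega
    rw [hx, ← pow_add, h1, pow_succ, inv_pow, pow_orderOf_eq_one, inv_one, one_mul]
  calc x * u * x⁻¹ = x * u * (u * x * u⁻¹) := by rw [hxu]
    _ = x * (u * u) * x * u⁻¹ := by group
    _ = w⁻¹ * u := by rw [hu, mul_one, hx2, huinv]
    _ = u' := by rw [hw, mul_inv_rev, inv_mul_cancel_right, hu'inv]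

section
variable (h4 : IsMultiplyPretransitive G α 4) (hodd : OddFour G α)
include h4 hodd

/-- An involution interchanging two points and fixing two others. -/
theorem exists_swap {a b c d : α} (hab : a ≠ b) (hac : a ≠ c) (had : a ≠ d) (hbc : b ≠ c)
    (hbd : b ≠ d) (hcd : c ≠ d) :
    ∃ u : G, u • a = b ∧ u • b = a ∧ u • c = c ∧ u • d = d ∧ u * u = 1 := by
  obtain ⟨g, ha, hb, hc, hd⟩ :=
    SharplyK.move_four h4 hab hac had hbc hbd hcd hab.symm hbc hbd hac had hcd
  have hk : Odd (orderOf (g * g)) := hodd _ a b c d hab hac had hbc hbd hcd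
    (by simp [mul_smul, *]) (by simp [mul_smul, *]) (by simp [mul_smul, *]) (by simp [mul_smul, *])
  refine ⟨g ^ orderOf (g * g), ?_, ?_, ?_, ?_, ?_⟩
  · rw [pow_odd_smul (by simp [*]) hk, ha]
  · rw [pow_odd_smul (by simp [*]) hk, hb]
  · rw [pow_odd_smul (by simp [*]) hk, hc]
  · rw [pow_odd_smul (by simp [*]) hk, hd]
  · rw [← (Commute.refl g).mul_pow, pow_orderOf_eq_one]

/-- The same, commuting with a given involution compatible with the pairs. -/
theorem exists_swap_comm {a b c d : α} (hab : a ≠ b) (hac : a ≠ c) (had : a ≠ d) (hbc : b ≠ c)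
    (hbd : b ≠ d) (hcd : c ≠ d) {s : G} (hs : s * s = 1)
    (hsab : (s • a = a ∧ s • b = b) ∨ (s • a = b ∧ s • b = a))
    (hscd : (s • c = c ∧ s • d = d) ∨ (s • c = d ∧ s • d = c)) :
    ∃ u : G, u • a = b ∧ u • b = a ∧ u • c = c ∧ u • d = d ∧ u * u = 1 ∧ s * u = u * s := by
  obtain ⟨g, ha, hb, hc, hd, hg⟩ := exists_swap h4 hodd hab hac had hbc hbd hcd
  set y := s * g with hy
  have hya : ∀ x ∈ ({a, b, c, d} : Set α), y • y • x = x ∧ s • g • x = g • s • x := by
    intro x hx
    simp only [Set.mem_insert_iff, Set.mem_singleton_iff] at hx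
    simp only [hy, mul_smul]
    rcases hx with rfl | rfl | rfl | rfl <;> rcases hsab with ⟨e1, e2⟩ | ⟨e1, e2⟩ <;>
      rcases hscd with ⟨e3, e5⟩ | ⟨e3, e5⟩ <;> simp [*]
  have hk : Odd (orderOf (y * y)) := hodd _ a b c d hab hac had hbc hbd hcd
    (by rw [mul_smul]; exact (hya a (by simp)).1) (by rw [mul_smul]; exact (hya b (by simp)).1)
    (by rw [mul_smul]; exact (hya c (by simp)).1) (by rw [mul_smul]; exact (hya d (by simp)).1)
  set k := orderOf (y * y) with hkdef
  have hz2 : y ^ k * y ^ k = 1 := by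
    rw [← (Commute.refl y).mul_pow, hkdef, pow_orderOf_eq_one]
  have hsinv : s⁻¹ = s := inv_eq_of_mul_eq_one_right hs
  have hginv : g⁻¹ = g := inv_eq_of_mul_eq_one_right hg
  have hsz : s * y ^ k * s = y ^ k := by
    have h1 : s * y * s⁻¹ = y⁻¹ := by
      rw [hy, mul_inv_rev, hsinv, hginv, ← mul_assoc s s g, hs, one_mul]
    have h2 : s * y ^ k * s⁻¹ = (y ^ k)⁻¹ := by rw [← conj_pow, h1, inv_pow]
    rwa [hsinv, inv_eq_of_mul_eq_one_right hz2] at h2
  have hzx : ∀ x ∈ ({a, b, c, d} : Set α), (s * y ^ k) • x = g • x := by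
    intro x hx
    rw [mul_smul, pow_odd_smul (hya x hx).1 hk, hy, mul_smul, smul_smul_of_sq hs]
  refine ⟨s * y ^ k, ?_, ?_, ?_, ?_, ?_, ?_⟩
  · rw [hzx a (by simp), ha]
  · rw [hzx b (by simp), hb]
  · rw [hzx c (by simp), hc]
  · rw [hzx d (by simp), hd]
  · rw [← mul_assoc, hsz, hz2]
  · rw [← mul_assoc, hs, one_mul, hsz]

end

section
variable [Fintype α] [DecidableEq α]

/-- The fixed points. -/
def fixF (g : G) : Finset α := univ.filter fun x => g • x = x

theorem mem_fixF {g : G} {x : α} : x ∈ fixF g ↔ g • x = x := by simp [fixF]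

theorem smul_mem_fixF {s u : G} (h : s * u = u * s) {x : α} (hx : x ∈ fixF (α := α) s) :
    u • x ∈ fixF s := by
  rw [mem_fixF] at hx ⊢
  rw [← mul_smul, h, mul_smul, hx]

theorem card_fixF_mod {g : G} (hg : g * g = 1) :
    (fixF (α := α) g).card % 2 = Fintype.card α % 2 :=
  SharplyK.card_fix_modEq (p := 2) (by rw [pow_two, hg])

variable (hodd : OddFour G α)
include hodd

theorem eq_one_of_four {g : G} (hg : g * g = 1) {s : Finset α} (hs : 4 ≤ s.card)
    (hfix : ∀ x ∈ s, g • x = x) : g = 1 := by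
  obtain ⟨t, hts, ht⟩ := Finset.exists_subset_card_eq hs
  obtain ⟨a, b, c, d, hab, hac, had, hbc, hbd, hcd, rfl⟩ := Finset.card_eq_four.mp ht
  exact eq_one_of_sq_of_odd hg (hodd g a b c d hab hac had hbc hbd hcd (hfix _ (hts (by simp)))
    (hfix _ (hts (by simp))) (hfix _ (hts (by simp))) (hfix _ (hts (by simp))))

theorem card_fixF_le {g : G} (hg : g * g = 1) (h1 : g ≠ 1) : (fixF (α := α) g).card ≤ 3 := by
  by_contra hc
  exact h1 (eq_one_of_four hodd hg (Nat.lt_of_not_le hc) fun x hx => mem_fixF.mp hx)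

/-- Commuting involutions fixing two common points have the same fixed points. -/
theorem fixF_subset {s e : G} (hs : s * s = 1) (hs1 : s ≠ 1) (hc : s * e = e * s) {p q : α}
    (hpq : p ≠ q) (hsp : s • p = p) (hsq : s • q = q) (hep : e • p = p) (heq : e • q = q) :
    fixF (α := α) s ⊆ fixF e := by
  intro x hx
  rw [mem_fixF]
  by_contra hex
  have hxp : x ≠ p := fun h => hex (h ▸ hep)
  have hxq : x ≠ q := fun h => hex (h ▸ heq)
  have h1 : e • x ≠ p := fun h => hxp (smul_left_cancel e (h.trans hep.symm))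
  have h2 : e • x ≠ q := fun h => hxq (smul_left_cancel e (h.trans heq.symm))
  have hsub : ({e • x, x, p, q} : Finset α) ⊆ fixF s := by
    intro z hz
    simp only [Finset.mem_insert, Finset.mem_singleton] at hz
    rcases hz with rfl | rfl | rfl | rfl
    exacts [smul_mem_fixF hc hx, hx, mem_fixF.mpr hsp, mem_fixF.mpr hsq]
  have := Finset.card_le_card hsub
  rw [Finset.card_insert_of_notMem (by simp [hex, h1, h2]),
    Finset.card_eq_three.mpr ⟨_, _, _, hxp, hxq, hpq, rfl⟩] at this
  have := card_fixF_le hodd hs hs1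
  omega

end

end Cfsg.Agent.Lib.FourOdd
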