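import Cfsg.Agent.Lib.FourOdd.Isolated

/-!
The degree of a 4-transitive group whose four-point stabiliser has odd order.
-/

set_option autoImplicit false
set_option linter.unusedSectionVars false

namespace Cfsg.Agent.Lib.FourOdd

open MulAction Finset

universe u v

variable {G : Type u} [Group G] [Finite G] {α : Type v} [MulAction G α] [Fintype α] [DecidableEq α]
  [FaithfulSMul G α]

theorem degree_bound_odd (h4 : IsMultiplyPretransitive G α 4) (hodd : OddFour G α)
    (h6 : 6 ≤ Fintype.card α) :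
    (Even (Fintype.card α) → Fintype.card α ≤ 6) ∧ Fintype.card α ≤ 11 ∧ Fintype.card α ≠ 9 := by
  classical
  obtain ⟨p, q, r, hpq, hpr, hqr⟩ := Fintype.two_lt_card_iff.mp (show 2 < Fintype.card α by omega)
  obtain ⟨r', hr'⟩ : ∃ r', r' ∉ ({p, q, r} : Finset α) := by
    by_contra hcon
    push Not at hcon
    have := Finset.card_le_card (fun x _ => hcon x : (univ : Finset α) ⊆ {p, q, r})
    have := Finset.card_le_three (a := p) (b := q) (c := r)
    rw [Finset.card_univ] at *
    omega
  simp only [Finset.mem_insert, Finset.mem_singleton, not_or] at hr'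
  obtain ⟨hr'p, hr'q, hr'r⟩ := hr'
  obtain ⟨s, hsr, hsr', hsp, hsq, hs⟩ :=
    exists_swap h4 hodd (Ne.symm hr'r) hpr.symm hqr.symm hr'p hr'q hpq
  have hs1 : s ≠ 1 := fun e => hr'r (by rw [← hsr, e, one_smul])
  have hss' : ∀ x : α, s • s • x = x := smul_smul_of_sq hs
  set F := fixF (α := α) s with hF
  have hFle : F.card ≤ 3 := card_fixF_le hodd hs hs1
  have hFmod : F.card % 2 = Fintype.card α % 2 := card_fixF_mod hs
  have hpF : p ∈ F := mem_fixF.mpr hsp
  have hqF : q ∈ F := mem_fixF.mpr hsq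
  have hF2 : 2 ≤ F.card := by
    rw [← Finset.card_pair hpq]
    exact Finset.card_le_card (Finset.insert_subset hpF (Finset.singleton_subset_iff.mpr hqF))
  have hrF : r ∉ F := fun h => hr'r (hsr.symm.trans (mem_fixF.mp h))
  have hr'F : r' ∉ F := fun h => hr'r (hsr'.symm.trans (mem_fixF.mp h)).symm
  set A := univ.filter fun x : α => x ∉ F ∧ x ≠ r ∧ x ≠ r' with hA
  have hAmem : ∀ {x : α}, x ∈ A ↔ x ∉ F ∧ x ≠ r ∧ x ≠ r' := by simp [hA]
  have hcard : F.card + 2 + A.card = Fintype.card α := by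
    have h1 : (F ∪ {r, r'}).card = F.card + 2 := by
      rw [Finset.card_union_of_disjoint (by simp [hrF, hr'F]), Finset.card_pair (Ne.symm hr'r)]
    have h2 : A = (F ∪ {r, r'})ᶜ := by ext x; simp [hA, not_or]; tauto
    rw [h2, ← h1, Finset.card_add_card_compl]
  have hsA : ∀ a ∈ A, s • a ∈ A ∧ s • a ≠ a := by
    intro a ha
    obtain ⟨a1, a2, a3⟩ := hAmem.mp ha
    refine ⟨hAmem.mpr ⟨fun h => a1 ?_, fun e => a3 ?_, fun e => a2 ?_⟩, fun h => a1 (mem_fixF.mpr h)⟩
    · exact mem_fixF.mpr ((hss' a).symm.trans (mem_fixF.mp h)).symm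
    · rw [← hss' a, e, hsr]
    · rw [← hss' a, e, hsr']
  -- involutions interchanging a pair and fixing `r`, `r'`
  let W : G → Prop := fun u => u * u = 1 ∧ s * u = u * s ∧ u • r = r ∧ u • r' = r'
  have hexists : ∀ a ∈ A, ∃ u, W u ∧ u • a = s • a := by
    intro a ha
    obtain ⟨a1, a2, a3⟩ := hAmem.mp ha
    obtain ⟨b1, b2, b3⟩ := hAmem.mp (hsA a ha).1
    obtain ⟨u, h1, -, h3, h5, h7, h8⟩ := exists_swap_comm h4 hodd (hsA a ha).2.symm a2 a3 b2 b3
      (Ne.symm hr'r) hs (Or.inr ⟨rfl, hss' a⟩) (Or.inr ⟨hsr, hsr'⟩)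
    exact ⟨u, ⟨h7, h8, h3, h5⟩, h1⟩
  choose! U hU hUa using hexists
  have hWF : ∀ u, W u → ∀ x ∈ F, u • x ∈ F := fun u hu x hx => smul_mem_fixF hu.2.1 hx
  have hWA : ∀ u, W u → ∀ x ∈ A, u • x ∈ A := by
    intro u hu x hx
    obtain ⟨x1, x2, x3⟩ := hAmem.mp hx
    refine hAmem.mpr ⟨fun h => x1 ?_, fun h => x2 (smul_left_cancel u (h.trans hu.2.2.1.symm)),
      fun h => x3 (smul_left_cancel u (h.trans hu.2.2.2.symm))⟩
    have := hWF u hu _ h
    rwa [smul_smul_of_sq hu.1] at this
  have hus1 : ∀ u, W u → s * u ≠ 1 := by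
    intro u hu h
    have := congrArg (fun k : G => k • r) h
    rw [one_smul, mul_smul, hu.2.2.1, hsr] at this
    exact hr'r this
  have hus2 : ∀ u, W u → s * u * (s * u) = 1 := fun u hu => by
    rw [show s * u * (s * u) = s * (u * s) * u by group, ← hu.2.1,
      show s * (s * u) * u = (s * s) * (u * u) by group, hs, hu.1, one_mul]
  -- each of them swaps only one pair
  have hunique : ∀ u, W u → ∀ a ∈ A, ∀ b ∈ A, u • a = s • a → u • b = s • b → b = a ∨ b = s • a := by
    intro u hu a ha b hb hua hub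
    by_contra hcon
    push Not at hcon
    have hfix : ∀ x : α, u • x = s • x → (s * u) • x = x := fun x hx => by rw [mul_smul, hx, hss']
    have hsa : ∀ x : α, u • x = s • x → u • s • x = s • s • x := fun x hx => by
      rw [← mul_smul, ← hu.2.1, mul_smul, hx]
    refine hus1 u hu (eq_one_of_four hodd (hus2 u hu) (s := {a, s • a, b, s • b}) ?_ ?_)
    · refine (Finset.card_eq_four.mpr ⟨a, s • a, b, s • b, (hsA a ha).2.symm, Ne.symm hcon.1, ?_,
        Ne.symm hcon.2, fun h => hcon.1 (smul_left_cancel s h).symm, (hsA b hb).2.symm, rfl⟩).ge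
      exact fun h => hcon.2 (by rw [h, hss'])
    · intro x hx
      simp only [Finset.mem_insert, Finset.mem_singleton] at hx
      rcases hx with rfl | rfl | rfl | rfl
      exacts [hfix _ hua, hfix _ (hsa _ hua), hfix _ hub, hfix _ (hsa _ hub)]
  have hu_not : ∀ u, W u → ∀ a ∈ A, u • a = s • a → ∀ x ∈ F, ∀ y ∈ F, x ≠ y → u • x = x → u • y ≠ y := by
    intro u hu a ha hua x hx y hy hxy hux huy
    have hu1 : u ≠ 1 := fun h => (hsA a ha).2 (by rw [← hua, h, one_smul])
    refine hu1 (eq_one_of_four hodd hu.1 (s := {x, y, r, r'}) (Finset.card_eq_four.mpr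
      ⟨x, y, r, r', hxy, fun h => hrF (h ▸ hx), fun h => hr'F (h ▸ hx), fun h => hrF (h ▸ hy),
        fun h => hr'F (h ▸ hy), Ne.symm hr'r, rfl⟩).ge ?_)
    intro z hz
    simp only [Finset.mem_insert, Finset.mem_singleton] at hz
    rcases hz with rfl | rfl | rfl | rfl
    exacts [hux, huy, hu.2.2.1, hu.2.2.2]
  have hf : ¬ Even (Fintype.card α) → ∀ u, W u → ∀ a ∈ A, u • a = s • a →
      ∃ f ∈ F, u • f = f ∧ ∀ x ∈ F, x ≠ f → u • x ≠ x := by
    intro hev u hu a ha hua
    obtain ⟨f, hf, huf⟩ : ∃ f ∈ F, u • f = f := by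
      by_contra hcon
      push Not at hcon
      have h3 : F.card = 3 := by rw [Nat.not_even_iff] at hev; omega
      obtain ⟨x, hx⟩ : F.Nonempty := ⟨p, hpF⟩
      obtain ⟨z, hz⟩ : ∃ z, z ∈ F \ ({x, u • x} : Finset α) := Finset.card_pos.mp (by
        have := Finset.le_card_sdiff ({x, u • x} : Finset α) F
        have : ({x, u • x} : Finset α).card ≤ 2 := Finset.card_le_two
        omega)
      simp only [Finset.mem_sdiff, Finset.mem_insert, Finset.mem_singleton, not_or] at hz
      have n1 : u • z ≠ x := fun h => hz.2.2 (by rw [← h, smul_smul_of_sq hu.1])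
      have n2 : u • z ≠ u • x := fun h => hz.2.1 (smul_left_cancel u h)
      have := Finset.card_le_card (show ({x, u • x, z, u • z} : Finset α) ⊆ F by
        intro w hw
        simp only [Finset.mem_insert, Finset.mem_singleton] at hw
        rcases hw with rfl | rfl | rfl | rfl
        exacts [hx, hWF u hu _ hx, hz.1, hWF u hu _ hz.1])
      rw [Finset.card_eq_four.mpr ⟨x, u • x, z, u • z, (hcon x hx).symm, Ne.symm hz.2.1, n1.symm,
        Ne.symm hz.2.2, n2.symm, (hcon z hz.1).symm, rfl⟩] at this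
      omega
    exact ⟨f, hf, huf, fun x hx hne => hu_not u hu a ha hua f hf x hx (Ne.symm hne) huf⟩
  -- the degree is not nine
  have h9 : Fintype.card α ≠ 9 := by
    intro hn
    have hev : ¬ Even (Fintype.card α) := by rw [hn]; decide
    have hA4 : A.card = 4 := by omega
    obtain ⟨a, ha⟩ : A.Nonempty := Finset.card_pos.mp (by omega)
    obtain ⟨b, hb⟩ : ∃ b, b ∈ A \ ({a, s • a} : Finset α) := Finset.card_pos.mp (by
      have := Finset.le_card_sdiff ({a, s • a} : Finset α) A
      have : ({a, s • a} : Finset α).card ≤ 2 := Finset.card_le_two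
      omega)
    simp only [Finset.mem_sdiff, Finset.mem_insert, Finset.mem_singleton, not_or] at hb
    obtain ⟨hb, hba, hbsa⟩ := hb
    set u := U a
    have hu := hU a ha
    obtain ⟨f, hfF, huf, -⟩ := hf hev u hu a ha (hUa a ha)
    have hAeq : A = {a, s • a, b, s • b} := by
      refine (Finset.eq_of_subset_of_card_le ?_ ?_).symm
      · intro x hx
        simp only [Finset.mem_insert, Finset.mem_singleton] at hx
        rcases hx with rfl | rfl | rfl | rfl
        exacts [ha, (hsA a ha).1, hb, (hsA b hb).1]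
      · rw [hA4]
        refine (Finset.card_eq_four.mpr ⟨a, s • a, b, s • b, (hsA a ha).2.symm, Ne.symm hba, ?_,
          Ne.symm hbsa, fun h => hba (smul_left_cancel s h).symm, (hsA b hb).2.symm, rfl⟩).ge
        exact fun h => hbsa (by rw [h, hss'])
    have h1 := hWA u hu b hb
    rw [hAeq] at h1
    simp only [Finset.mem_insert, Finset.mem_singleton] at h1
    rcases h1 with h | h | h | h
    · exact hbsa (by rw [← smul_smul_of_sq hu.1 b, h, hUa a ha])
    · exact hba (smul_left_cancel u (h.trans (hUa a ha).symm))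
    · refine (fun hu1 : u ≠ 1 => hu1 ?_) (fun e => (hsA a ha).2 (by rw [← hUa a ha, show U a = 1 from e, one_smul]))
      obtain ⟨hb1, hb2, hb3⟩ := hAmem.mp hb
      refine eq_one_of_four hodd hu.1 (s := {f, r, r', b}) (Finset.card_eq_four.mpr
        ⟨f, r, r', b, fun h => hrF (h ▸ hfF), fun h => hr'F (h ▸ hfF), fun h => hb1 (h ▸ hfF),
          Ne.symm hr'r, Ne.symm hb2, Ne.symm hb3, rfl⟩).ge ?_
      intro z hz
      simp only [Finset.mem_insert, Finset.mem_singleton] at hz
      rcases hz with rfl | rfl | rfl | rfl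
      exacts [huf, hu.2.2.1, hu.2.2.2, h]
    · rcases hunique u hu a ha b hb (hUa a ha) h with e | e
      exacts [hba e, hbsa e]
  by_cases hP : Paired G α
  swap
  · exact ⟨(bound_of_not_paired h4 hodd hP h6).1, (bound_of_not_paired h4 hodd hP h6).2, h9⟩
  -- the elements centralising `s` and fixing `p, q, r, r'` fix another point
  let D : G → Prop := fun x => s * x = x * s ∧ x • p = p ∧ x • q = q ∧ x • r = r ∧ x • r' = r'
  have hDodd : ∀ x, D x → Odd (orderOf x) := fun x hx =>
    hodd x p q r r' hpq hpr (Ne.symm hr'p) hqr (Ne.symm hr'q) (Ne.symm hr'r) hx.2.1 hx.2.2.1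
      hx.2.2.2.1 hx.2.2.2.2
  have hDF : ∀ x, D x → ∀ z ∈ F, x • z = z := by
    intro x hx z hz
    by_contra hne
    have hzp : z ≠ p := fun h => hne (h ▸ hx.2.1)
    have hzq : z ≠ q := fun h => hne (h ▸ hx.2.2.1)
    have h1 : x • z ≠ p := fun h => hzp (smul_left_cancel x (h.trans hx.2.1.symm))
    have h2 : x • z ≠ q := fun h => hzq (smul_left_cancel x (h.trans hx.2.2.1.symm))
    have := Finset.card_le_card (show ({x • z, z, p, q} : Finset α) ⊆ F by
      intro w hw
      simp only [Finset.mem_insert, Finset.mem_singleton] at hw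
      rcases hw with rfl | rfl | rfl | rfl
      exacts [smul_mem_fixF hx.1 hz, hz, hpF, hqF])
    rw [Finset.card_insert_of_notMem (by simp [hne, h1, h2]),
      Finset.card_eq_three.mpr ⟨_, _, _, hzp, hzq, hpq, rfl⟩] at this
    omega
  obtain ⟨M, hM2, hM3, hMd, hM⟩ := hasCompanion h4 hodd (by omega) hP hpq hpr (Ne.symm hr'p) hqr
    (Ne.symm hr'q) (Ne.symm hr'r)
  have hsM : ∀ x ∈ M, s • x ∈ M := hM s (by
    intro x hx
    simp only [Finset.mem_insert, Finset.mem_singleton] at hx ⊢
    rcases hx with rfl | rfl | rfl | rfl <;> simp [*])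
  obtain ⟨y, hyM, hyF⟩ : ∃ y ∈ M, y ∉ F := by
    by_contra hcon
    push Not at hcon
    have hsub : M ⊆ (F.erase p).erase q := fun z hz =>
      Finset.mem_erase.mpr ⟨fun h => hMd q (by simp) (h ▸ hz), Finset.mem_erase.mpr
        ⟨fun h => hMd p (by simp) (h ▸ hz), hcon z hz⟩⟩
    have := Finset.card_le_card hsub
    rw [Finset.card_erase_of_mem (Finset.mem_erase.mpr ⟨hpq.symm, hqF⟩),
      Finset.card_erase_of_mem hpF] at this
    omega
  have hyA : y ∈ A := hAmem.mpr ⟨hyF, fun h => hMd r (by simp) (h ▸ hyM), fun h => hMd r' (by simp) (h ▸ hyM)⟩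
  have hgood : ∀ x, D x → x • y = y := by
    intro x hx
    have hxM : ∀ z ∈ M, x • z ∈ M := hM x (by
      intro z hz
      simp only [Finset.mem_insert, Finset.mem_singleton] at hz ⊢
      rcases hz with rfl | rfl | rfl | rfl <;> simp [hx.2.1, hx.2.2.1, hx.2.2.2.1, hx.2.2.2.2])
    obtain ⟨hsy, hsy'⟩ := hsA y hyA
    by_cases hxy : x • y = s • y
    · have h2 : x • x • y = y := by
        rw [hxy, ← mul_smul, ← hx.1, mul_smul, hxy, hss']
      obtain ⟨k, hk⟩ := hDodd x hx
      have h3 := pow_odd_smul h2 ⟨k, hk⟩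
      rw [pow_orderOf_eq_one, one_smul] at h3
      exact h3.symm
    by_contra hne
    -- the third point of `M` is fixed by `s`
    set z := x • y with hz
    have hsz : s • z = z := by
      by_contra hsz
      have := Finset.card_le_card (show ({y, s • y, z, s • z} : Finset α) ⊆ M by
        intro w hw
        simp only [Finset.mem_insert, Finset.mem_singleton] at hw
        rcases hw with rfl | rfl | rfl | rfl
        exacts [hyM, hsM y hyM, hxM y hyM, hsM _ (hxM y hyM)])
      rw [Finset.card_eq_four.mpr ⟨y, s • y, z, s • z, hsy'.symm, Ne.symm hne,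
        fun h => hxy (by rw [h, hss']), Ne.symm hxy, fun h => hne (smul_left_cancel s h).symm,
        Ne.symm hsz, rfl⟩] at this
      omega
    have hzz : x • z = z := hDF x hx z (mem_fixF.mpr hsz)
    exact hne (smul_left_cancel x hzz)
  -- two of the involutions agreeing on `F` are conjugate under `D`
  have hclass : ∀ a ∈ A, (∀ x, D x → x • a = a) → ∀ u u', W u → W u' → u • a = s • a →
      (∀ z ∈ F, u • z = u' • z) → ∀ b ∈ A, u' • b = s • b → b = a ∨ b = s • a := by
    intro a ha hga u u' hu hu' hua hag b hb hub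
    have hw : D (u * u') := by
      refine ⟨?_, ?_, ?_, ?_, ?_⟩
      · rw [← mul_assoc, hu.2.1, mul_assoc, hu'.2.1, mul_assoc]
      · rw [mul_smul, ← hag p hpF, smul_smul_of_sq hu.1]
      · rw [mul_smul, ← hag q hqF, smul_smul_of_sq hu.1]
      · rw [mul_smul, hu'.2.2.1, hu.2.2.1]
      · rw [mul_smul, hu'.2.2.2, hu.2.2.2]
    obtain ⟨x, hx, hxu⟩ := exists_conj_of_odd hu.1 hu'.1 (hDodd _ hw)
    have hxD : D x := by
      obtain ⟨j, rfl⟩ := Subgroup.mem_zpowers_iff.mp hx
      refine ⟨(Commute.zpow_right hw.1 j).eq, ?_, ?_, ?_, ?_⟩ <;>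
        refine mem_stabilizer_iff.mp (Subgroup.zpow_mem (stabilizer G _) (mem_stabilizer_iff.mpr ?_) j)
      exacts [hw.2.1, hw.2.2.1, hw.2.2.2.1, hw.2.2.2.2]
    refine hunique u' hu' a ha b hb ?_ hub
    have hxa := hga x hxD
    have hxi : x⁻¹ • a = a := inv_smul_eq_iff.mpr hxa.symm
    rw [← hxu, mul_smul, mul_smul, hxi, hua, ← mul_smul, ← hxD.1, mul_smul, hxa]
  suffices heven : Even (Fintype.card α) → Fintype.card α ≤ 6 by
    refine ⟨heven, ?_, h9⟩
    by_cases hev : Even (Fintype.card α)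
    · exact le_trans (heven hev) (by norm_num)
    have h3 : F.card = 3 := by rw [Nat.not_even_iff] at hev; omega
    have hf' : ∀ a ∈ A, ∃ f ∈ F, U a • f = f ∧ ∀ x ∈ F, x ≠ f → U a • x ≠ x :=
      fun a ha => hf hev _ (hU a ha) a ha (hUa a ha)
    choose! f hfF hff hfo using hf'
    -- involutions fixing the same point of `F` agree there
    have hagree : ∀ u u' c, W u → W u' → c ∈ F → u • c = c → u' • c = c →
        (∀ x ∈ F, x ≠ c → u • x ≠ x) → (∀ x ∈ F, x ≠ c → u' • x ≠ x) →
        ∀ z ∈ F, u • z = u' • z := by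
      intro u u' c hu hu' hc huc hu'c ho ho' z hz
      by_cases hzc : z = c
      · rw [hzc, huc, hu'c]
      by_contra hne
      have h1 : u • z ≠ c := fun h => hzc (smul_left_cancel u (h.trans huc.symm))
      have h2 : u' • z ≠ c := fun h => hzc (smul_left_cancel u' (h.trans hu'c.symm))
      have := Finset.card_le_card (show ({c, z, u • z, u' • z} : Finset α) ⊆ F by
        intro w hw
        simp only [Finset.mem_insert, Finset.mem_singleton] at hw
        rcases hw with rfl | rfl | rfl | rfl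
        exacts [hc, hz, hWF u hu z hz, hWF u' hu' z hz])
      rw [Finset.card_eq_four.mpr ⟨c, z, u • z, u' • z, Ne.symm hzc, h1.symm, h2.symm,
        (ho z hz hzc).symm, (ho' z hz hzc).symm, hne, rfl⟩] at this
      omega
    -- conjugating
    have hDconj : ∀ w, W w → ∀ x, D x → D (w * x * w) := by
      intro w hw x hx
      refine ⟨?_, ?_, ?_, ?_, ?_⟩
      · rw [← mul_assoc, ← mul_assoc, hw.2.1, mul_assoc w s x, hx.1, mul_assoc, mul_assoc, hw.2.1]
        simp only [mul_assoc]
      · rw [mul_smul, mul_smul, hDF x hx _ (hWF w hw p hpF), smul_smul_of_sq hw.1]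
      · rw [mul_smul, mul_smul, hDF x hx _ (hWF w hw q hqF), smul_smul_of_sq hw.1]
      · rw [mul_smul, mul_smul, hw.2.2.1, hx.2.2.2.1, hw.2.2.1]
      · rw [mul_smul, mul_smul, hw.2.2.2, hx.2.2.2.2, hw.2.2.2]
    let Good : G → α → α → Prop := fun u a c => W u ∧ a ∈ A ∧ u • a = s • a ∧ (∀ x, D x → x • a = a) ∧
      c ∈ F ∧ u • c = c ∧ ∀ x ∈ F, x ≠ c → u • x ≠ x
    have hconjW : ∀ w u, W w → W u → W (w * u * w) := by
      intro w u hw hu
      refine ⟨?_, ?_, ?_, ?_⟩
      · rw [show w * u * w * (w * u * w) = w * u * (w * w) * u * w by group, hw.1, mul_one,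
          mul_assoc w u u, hu.1, mul_one, hw.1]
      · rw [← mul_assoc, ← mul_assoc, hw.2.1, mul_assoc w s u, hu.2.1, mul_assoc, mul_assoc, hw.2.1]
        simp only [mul_assoc]
      · rw [mul_smul, mul_smul, hw.2.2.1, hu.2.2.1, hw.2.2.1]
      · rw [mul_smul, mul_smul, hw.2.2.2, hu.2.2.2, hw.2.2.2]
    have hconj : ∀ w, W w → ∀ u a c, Good u a c → Good (w * u * w) (w • a) (w • c) := by
      intro w hw u a c ⟨hu, ha, hua, hga, hc, huc, ho⟩
      refine ⟨hconjW w u hw hu, hWA w hw a ha, ?_, fun x hx => ?_, hWF w hw c hc, ?_, fun x hx hne => ?_⟩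
      · rw [mul_smul, mul_smul, smul_smul_of_sq hw.1, hua, ← mul_smul, ← hw.2.1, mul_smul]
      · have := hga _ (hDconj w hw x hx)
        rw [mul_smul, mul_smul] at this
        exact smul_left_cancel w (this.trans (smul_smul_of_sq hw.1 a).symm)
      · rw [mul_smul, mul_smul, smul_smul_of_sq hw.1, huc]
      · intro h
        rw [mul_smul, mul_smul] at h
        refine ho _ (hWF w hw x hx) (fun e => hne ?_) ?_
        · rw [← smul_smul_of_sq hw.1 x, e]
        · exact smul_left_cancel w (h.trans (smul_smul_of_sq hw.1 x).symm)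
    have hy0 : Good (U y) y (f y) :=
      ⟨hU y hyA, hyA, hUa y hyA, hgood, hfF y hyA, hff y hyA, hfo y hyA⟩
    have hall : ∀ b ∈ A, ∃ u a, Good u a (f b) := by
      intro b hb
      by_cases h : f b = f y
      · exact ⟨_, _, h ▸ hy0⟩
      have hv := hconj _ (hU b hb) _ _ _ hy0
      set k := U b • f y with hk
      have hky : k ≠ f y := fun e => hfo b hb _ (hfF y hyA) (Ne.symm h) e
      have hkb : k ≠ f b := fun e => h (smul_left_cancel (U b) (e.trans (hff b hb).symm)).symm
      have hw := hconj _ hv.1 _ _ _ hy0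
      set v := U b * U y * U b
      set m := v • f y with hm
      have hvk : v • k = k := hv.2.2.2.2.2.1
      have hmk : m ≠ k := fun e => hky (smul_left_cancel v (e.trans hvk.symm)).symm
      have hmy : m ≠ f y := hv.2.2.2.2.2.2 _ (hfF y hyA) hky.symm
      have hmb : m = f b := by
        by_contra hne
        have := Finset.card_le_card (show ({f y, f b, k, m} : Finset α) ⊆ F by
          intro z hz
          simp only [Finset.mem_insert, Finset.mem_singleton] at hz
          rcases hz with rfl | rfl | rfl | rfl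
          exacts [hfF y hyA, hfF b hb, hv.2.2.2.2.1, hWF v hv.1 _ (hfF y hyA)])
        rw [Finset.card_eq_four.mpr ⟨f y, f b, k, m, Ne.symm h, hky.symm, hmy.symm, hkb.symm,
          Ne.symm hne, hmk.symm, rfl⟩] at this
        omega
      exact ⟨_, _, hmb ▸ hw⟩
    have hfib : ∀ c ∈ A.image f, (A.filter fun a => f a = c).card ≤ 2 := by
      intro c hc
      obtain ⟨b, hb, rfl⟩ := Finset.mem_image.mp hc
      obtain ⟨u, a, hu, ha, hua, hga, -, huc, ho⟩ := hall b hb
      refine le_trans (Finset.card_le_card (t := {a, s • a}) fun b' hb' => ?_) Finset.card_le_two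
      obtain ⟨hb'A, hfb⟩ := Finset.mem_filter.mp hb'
      simp only [Finset.mem_insert, Finset.mem_singleton]
      refine hclass a ha hga u (U b') hu (hU b' hb'A) hua ?_ b' hb'A (hUa b' hb'A)
      exact hagree u (U b') (f b) hu (hU b' hb'A) (hfF b hb) huc (hfb ▸ hff b' hb'A) ho
        (hfb ▸ hfo b' hb'A)
    have h1 := Finset.card_le_mul_card_image A 2 hfib
    have h2 : (A.image f).card ≤ 3 := h3 ▸ Finset.card_le_card (fun x hx => by
      obtain ⟨a, ha, rfl⟩ := Finset.mem_image.mp hx
      exact hfF a ha)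
    omega
  intro hev
  have hFeq : F = {p, q} := by
    refine (Finset.eq_of_subset_of_card_le (Finset.insert_subset hpF
      (Finset.singleton_subset_iff.mpr hqF)) ?_).symm
    rw [Finset.card_pair hpq]
    rw [Nat.even_iff] at hev
    omega
  have hswap : ∀ a ∈ A, U a • p = q ∧ U a • q = p := by
    intro a ha
    have hu := hU a ha
    have h1 := hWF _ hu p hpF
    have h2 := hWF _ hu q hqF
    rw [hFeq, Finset.mem_insert, Finset.mem_singleton] at h1 h2
    have h3 := hu_not _ hu a ha (hUa a ha)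
    rcases h1 with h1 | h1
    · rcases h2 with h2 | h2
      · exact absurd (smul_left_cancel _ (h2.trans h1.symm)) hpq.symm
      · exact absurd h2 (h3 p hpF q hqF hpq h1)
    · rcases h2 with h2 | h2
      · exact ⟨h1, h2⟩
      · exact absurd (smul_left_cancel _ (h1.trans h2.symm)) hpq
  have hAsub : A ⊆ {y, s • y} := by
    intro b hb
    simp only [Finset.mem_insert, Finset.mem_singleton]
    refine hclass y hyA hgood (U y) (U b) (hU y hyA) (hU b hb) (hUa y hyA) (fun z hz => ?_) b hb
      (hUa b hb)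
    rw [hFeq, Finset.mem_insert, Finset.mem_singleton] at hz
    rcases hz with rfl | rfl
    · rw [(hswap y hyA).1, (hswap b hb).1]
    · rw [(hswap y hyA).2, (hswap b hb).2]
  have h1 := Finset.card_le_card hAsub
  have h2 : ({y, s • y} : Finset α).card ≤ 2 := Finset.card_le_two
  rw [Nat.even_iff] at hev
  omega

end Cfsg.Agent.Lib.FourOdd
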