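import Cfsg.Agent.Lib.FourOdd.Basic
import Cfsg.Agent.Lib.Perm.KleinOdd

/-!
The set of fixed points of a four-group regular on four given points.
-/

set_option autoImplicit false
set_option linter.unusedSectionVars false

namespace Cfsg.Agent.Lib.FourOdd

open MulAction Finset
open Cfsg.Agent.Lib.Perm.KleinOdd (cent mem_cent card_formula)

universe u v

variable {G : Type u} [Group G] [Finite G] {α : Type v} [MulAction G α] [Fintype α] [DecidableEq α]

/-- A small set disjoint from `S` and preserved by everything preserving `S`. -/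
def HasCompanion (G : Type u) [Group G] {α : Type v} [MulAction G α] (S : Finset α) : Prop :=
  ∃ M : Finset α, 2 ≤ M.card ∧ M.card ≤ 3 ∧ (∀ x ∈ S, x ∉ M) ∧
    ∀ g : G, (∀ x ∈ S, g • x ∈ S) → ∀ x ∈ M, g • x ∈ M

/-- There are commuting involutions fixing two common points. -/
def Paired (G : Type u) [Group G] (α : Type v) [MulAction G α] : Prop :=
  ∃ (s e : G) (p q : α), s * s = 1 ∧ e * e = 1 ∧ s * e = e * s ∧ s ≠ 1 ∧ e ≠ 1 ∧ s ≠ e ∧ p ≠ q ∧
    s • p = p ∧ s • q = q ∧ e • p = p ∧ e • q = q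

theorem preserves_inv {g : G} {S : Finset α} (h : ∀ x ∈ S, g • x ∈ S) : ∀ x ∈ S, g⁻¹ • x ∈ S := by
  intro x hx
  have himg : S.image (g • ·) = S := Finset.eq_of_subset_of_card_le
    (fun y hy => by obtain ⟨z, hz, rfl⟩ := Finset.mem_image.mp hy; exact h z hz)
    (Finset.card_image_of_injective _ (MulAction.injective g)).ge
  rw [← himg, Finset.mem_image] at hx
  obtain ⟨z, hz, rfl⟩ := hx
  rwa [inv_smul_smul]

/-- Two fixed-point-free involutions of four points agreeing at one point agree. -/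
theorem agree_of_four {S : Finset α} (hS : S.card = 4) {t v : G} (ht : t * t = 1) (hv : v * v = 1)
    (htS : ∀ x ∈ S, t • x ∈ S ∧ t • x ≠ x) (hvS : ∀ x ∈ S, v • x ∈ S ∧ v • x ≠ x) {r : α}
    (hr : r ∈ S) (h : t • r = v • r) : ∀ x ∈ S, t • x = v • x := by
  intro x hx
  by_cases h1 : x = r
  · rw [h1, h]
  by_cases h2 : x = t • r
  · rw [h2, smul_smul_of_sq ht, h, smul_smul_of_sq hv]
  by_contra hne
  have hb : ∀ w : G, w * w = 1 → w • r = t • r → w • x ≠ r ∧ w • x ≠ t • r := fun w hw hwr =>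
    ⟨fun e => h2 (by rw [← smul_smul_of_sq hw x, e, hwr]),
      fun e => h1 (smul_left_cancel w (e.trans hwr.symm))⟩
  obtain ⟨a1, a2⟩ := hb t ht rfl
  obtain ⟨b1, b2⟩ := hb v hv h.symm
  have hsub : ({x, t • x, v • x, r, t • r} : Finset α) ⊆ S := by
    intro z hz
    simp only [Finset.mem_insert, Finset.mem_singleton] at hz
    rcases hz with rfl | rfl | rfl | rfl | rfl
    exacts [hx, (htS x hx).1, (hvS x hx).1, hr, (htS r hr).1]
  have hc := Finset.card_le_card hsub
  rw [hS, Finset.card_insert_of_notMem (by simp [h1, h2, (htS x hx).2.symm, (hvS x hx).2.symm]),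
    Finset.card_insert_of_notMem (by simp [a1, a2, hne]),
    Finset.card_insert_of_notMem (by simp [b1, b2]), Finset.card_pair (htS r hr).2.symm] at hc
  omega

variable (h4 : IsMultiplyPretransitive G α 4) (hodd : OddFour G α) (h5 : 5 ≤ Fintype.card α)
include h4 hodd h5

theorem hasCompanion_base (hP : Paired G α) : ∃ a b c d : α, a ≠ b ∧ a ≠ c ∧ a ≠ d ∧ b ≠ c ∧
    b ≠ d ∧ c ≠ d ∧ HasCompanion G ({a, b, c, d} : Finset α) := by
  classical
  obtain ⟨s, e, p, q, hs, he, hc, hs1, he1, hse, hpq, hsp, hsq, hep, heq⟩ := hP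
  have heinv : e⁻¹ = e := inv_eq_of_mul_eq_one_right he
  have hsinv : s⁻¹ = s := inv_eq_of_mul_eq_one_right hs
  have hse1 : s * e ≠ 1 := fun h => hse ((mul_eq_one_iff_eq_inv.mp h).trans heinv)
  have hse2 : s * e * (s * e) = 1 := by
    rw [show s * e * (s * e) = s * (e * s) * e by group, ← hc,
      show s * (s * e) * e = (s * s) * (e * e) by group, hs, he, one_mul]
  set F0 := fixF (α := α) s with hF0
  have hse' : ((s * e) • p = p) ∧ (s * e) • q = q := by simp [mul_smul, *]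
  have hee : fixF (α := α) e = F0 := (fixF_subset hodd he he1 hc.symm hpq hep heq hsp hsq).antisymm
    (fixF_subset hodd hs hs1 hc hpq hsp hsq hep heq)
  have hsc : s * (s * e) = s * e * s := by rw [mul_assoc s e s, ← hc]
  have hsee : fixF (α := α) (s * e) = F0 :=
    (fixF_subset hodd hse2 hse1 hsc.symm hpq hse'.1 hse'.2 hsp hsq).antisymm
      (fixF_subset hodd hs hs1 hsc hpq hsp hsq hse'.1 hse'.2)
  obtain ⟨r, hr⟩ : ∃ r, r ∉ F0 := by
    by_contra hcon
    push Not at hcon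
    have := card_fixF_le (α := α) hodd hs hs1
    rw [← hF0, Finset.eq_univ_of_forall hcon, Finset.card_univ] at this
    omega
  have n1 : s • r ≠ r := fun h => hr (mem_fixF.mpr h)
  have n2 : e • r ≠ r := fun h => hr (hee ▸ mem_fixF.mpr h)
  have n3 : (s * e) • r ≠ r := fun h => hr (hsee ▸ mem_fixF.mpr h)
  have n4 : s • r ≠ e • r := fun h => n3 (by rw [mul_smul, ← h, smul_smul_of_sq hs])
  have n5 : s • r ≠ (s * e) • r := fun h => n2 (by
    rw [mul_smul] at h; exact (smul_left_cancel s h).symm)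
  have n6 : e • r ≠ (s * e) • r := fun h => n1 (smul_left_cancel e (by
    rw [← mul_smul, ← hc]; exact h.symm))
  refine ⟨r, s • r, e • r, (s * e) • r, n1.symm, n2.symm, n3.symm, n4, n5, n6, ?_⟩
  set S : Finset α := {r, s • r, e • r, (s * e) • r} with hS
  have hScard : S.card = 4 :=
    Finset.card_eq_four.mpr ⟨_, _, _, _, n1.symm, n2.symm, n3.symm, n4, n5, n6, rfl⟩
  have hmemS : ∀ {x : α}, x ∈ S ↔ x = r ∨ x = s • r ∨ x = e • r ∨ x = (s * e) • r := by
    simp [hS]
  have hsS : ∀ x ∈ S, s • x ∈ S := by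
    intro x hx
    rcases hmemS.mp hx with rfl | rfl | rfl | rfl <;> rw [hmemS]
    · tauto
    · left; exact smul_smul_of_sq hs r
    · right; right; right; exact (mul_smul _ _ _).symm
    · right; right; left; rw [mul_smul, smul_smul_of_sq hs]
  have heS : ∀ x ∈ S, e • x ∈ S := by
    intro x hx
    rcases hmemS.mp hx with rfl | rfl | rfl | rfl <;> rw [hmemS]
    · tauto
    · right; right; right; rw [← mul_smul, ← hc]
    · left; exact smul_smul_of_sq he r
    · right; left; rw [hc, mul_smul, smul_smul_of_sq he]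
  have hseS : ∀ x ∈ S, (s * e) • x ∈ S := fun x hx => by
    rw [mul_smul]; exact hsS _ (heS x hx)
  have hSF : ∀ x ∈ S, x ∉ F0 := by
    intro x hx hxF
    rcases hmemS.mp hx with rfl | rfl | rfl | rfl
    · exact hr hxF
    · have := smul_mem_fixF (α := α) (s := s) (u := s) rfl hxF
      rw [smul_smul_of_sq hs] at this; exact hr this
    · have := smul_mem_fixF (α := α) hc hxF
      rw [smul_smul_of_sq he] at this; exact hr this
    · have := smul_mem_fixF (α := α) hsc hxF
      rw [smul_smul_of_sq hse2] at this; exact hr this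
  -- the subgroup fixing `S` pointwise
  let H : Subgroup G :=
    { carrier := {x | ∀ y ∈ S, x • y = y}
      one_mem' := fun y _ => one_smul _ y
      mul_mem' := fun {a b} ha hb y hy => by rw [mul_smul, hb y hy, ha y hy]
      inv_mem' := fun {a} ha y hy => by rw [inv_smul_eq_iff, ha y hy] }
  have hHodd : ∀ x ∈ H, Odd (orderOf x) := fun x hx =>
    hodd x r (s • r) (e • r) ((s * e) • r) n1.symm n2.symm n3.symm n4 n5 n6 (hx _ (by simp [hmemS]))
      (hx _ (by simp [hmemS])) (hx _ (by simp [hmemS])) (hx _ (by simp [hmemS]))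
  have hHodd' : Odd (Nat.card H) := by
    rw [← Nat.not_even_iff_odd, even_iff_two_dvd]
    intro h
    haveI : Fact (Nat.Prime 2) := ⟨Nat.prime_two⟩
    obtain ⟨x, hx⟩ := exists_prime_orderOf_dvd_card' (G := H) 2 h
    have := hHodd x x.2
    rw [Subgroup.orderOf_coe, hx] at this
    exact absurd this (by decide)
  let L : Subgroup G :=
    { carrier := {x | x ∈ H ∧ ∀ y, x • y ∈ F0 ↔ y ∈ F0}
      one_mem' := ⟨one_mem H, fun y => by rw [one_smul]⟩
      mul_mem' := fun {a b} ha hb => ⟨mul_mem ha.1 hb.1, fun y => by rw [mul_smul, ha.2, hb.2]⟩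
      inv_mem' := fun {a} ha => ⟨inv_mem ha.1, fun y => by rw [← ha.2, smul_inv_smul]⟩ }
  have hLH : L ≤ H := fun x hx => hx.1
  have hLodd : Odd (Nat.card L) := hHodd'.of_dvd_nat (Subgroup.card_dvd_of_le hLH)
  have hnormH : ∀ v : G, v * v = 1 → (∀ y ∈ S, v • y ∈ S) → ∀ x ∈ H, v * x * v ∈ H :=
    fun v hv hvS x hx y hy => by rw [mul_smul, mul_smul, hx _ (hvS y hy), smul_smul_of_sq hv]
  have hnormL : ∀ v : G, v * v = 1 → (∀ y ∈ S, v • y ∈ S) → fixF (α := α) v = F0 →
      ∀ x ∈ L, v * x * v ∈ L := by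
    intro v hv hvS hvF x hx
    refine ⟨hnormH v hv hvS x hx.1, fun y => ?_⟩
    have hvy : ∀ z, v • z ∈ F0 ↔ z ∈ F0 := fun z => by
      rw [← hvF, mem_fixF, mem_fixF, smul_smul_of_sq hv]; exact eq_comm
    rw [mul_smul, mul_smul, hvy, hx.2, hvy]
  have hcent : ∀ v : G, fixF (α := α) v = F0 → ∀ x, x ∈ cent H v ↔ x ∈ cent L v := by
    intro v hvF x
    rw [mem_cent, mem_cent]
    refine ⟨fun h => ⟨⟨h.1, fun y => ?_⟩, h.2⟩, fun h => ⟨h.1.1, h.2⟩⟩
    rw [← hvF, mem_fixF, mem_fixF, ← mul_smul, h.2, mul_smul]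
    exact (MulAction.injective x).eq_iff
  have hHL : H ≤ L := by
    have e1 := card_formula (K := H) hHodd' hs he hc (hnormH s hs hsS) (hnormH e he heS)
    have e2 := card_formula (K := L) hLodd hs he hc (hnormL s hs hsS rfl) (hnormL e he heS hee)
    have c1 : cent H s = cent L s := Subgroup.ext (hcent s rfl)
    have c2 : cent H e = cent L e := Subgroup.ext (hcent e hee)
    have c3 : cent H (s * e) = cent L (s * e) := Subgroup.ext (hcent _ hsee)
    rw [c1, c2, c3, ← e2] at e1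
    exact (Subgroup.eq_of_le_of_card_ge hLH
      (Nat.eq_of_mul_eq_mul_right (Nat.pow_pos Nat.card_pos) e1).le).ge
  refine ⟨F0, ?_, card_fixF_le hodd hs hs1, hSF, fun g hg x hx => ?_⟩
  · refine le_trans (Finset.card_pair hpq).ge (Finset.card_le_card fun z hz => ?_)
    simp only [Finset.mem_insert, Finset.mem_singleton] at hz
    rcases hz with rfl | rfl <;> exact mem_fixF.mpr (by assumption)
  -- a conjugate of `s` acts on `S` as one of the three involutions
  set t := g * s * g⁻¹ with htdef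
  have ht : t * t = 1 := by
    rw [htdef, show g * s * g⁻¹ * (g * s * g⁻¹) = g * (s * s) * g⁻¹ by group, hs]; group
  have hgi := preserves_inv hg
  have hne : ∀ z ∈ S, s • z ≠ z := fun z hz h => hSF z hz (mem_fixF.mpr h)
  have htS : ∀ y ∈ S, t • y ∈ S ∧ t • y ≠ y := by
    intro y hy
    refine ⟨by rw [htdef, mul_smul, mul_smul]; exact hg _ (hsS _ (hgi y hy)), fun h => ?_⟩
    rw [htdef, mul_smul, mul_smul, ← eq_inv_smul_iff] at h
    exact hne _ (hgi y hy) h
  obtain ⟨v, hv, hvS, hvF, hvr⟩ : ∃ v : G, v * v = 1 ∧ (∀ y ∈ S, v • y ∈ S) ∧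
      fixF (α := α) v = F0 ∧ t • r = v • r := by
    obtain ⟨h1, h2⟩ := htS r (by simp [hmemS])
    rcases hmemS.mp h1 with h | h | h | h
    · exact absurd h h2
    exacts [⟨s, hs, hsS, rfl, h⟩, ⟨e, he, heS, hee, h⟩, ⟨s * e, hse2, hseS, hsee, h⟩]
  have hag := agree_of_four hScard ht hv htS (fun y hy => ⟨hvS y hy, fun h =>
    hSF y hy (hvF ▸ mem_fixF.mpr h)⟩) (by simp [hmemS] : r ∈ S) hvr
  have hw : v * t ∈ H := fun y hy => by rw [mul_smul, hag y hy, smul_smul_of_sq hv]
  obtain ⟨z, hz, hzv⟩ := exists_conj_of_odd hv ht (hHodd _ hw)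
  have hzL : z ∈ L := hHL ((Subgroup.zpowers_le.mpr hw) hz)
  have hz' : z⁻¹ • (g • x) ∈ F0 := by
    rw [← hvF, mem_fixF]
    have h1 : t • (g • x) = g • x := by
      rw [htdef, mul_smul, mul_smul, inv_smul_smul, mem_fixF.mp hx]
    rw [← hzv, mul_smul, mul_smul] at h1
    exact eq_inv_smul_iff.mpr h1
  rw [← hzL.2 (z⁻¹ • (g • x)), smul_inv_smul] at hz'
  exact hz'

theorem hasCompanion (hP : Paired G α) {a b c d : α} (hab : a ≠ b) (hac : a ≠ c) (had : a ≠ d)
    (hbc : b ≠ c) (hbd : b ≠ d) (hcd : c ≠ d) : HasCompanion G ({a, b, c, d} : Finset α) := by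
  classical
  obtain ⟨a', b', c', d', n1, n2, n3, n4, n5, n6, M, hM2, hM3, hMd, hM⟩ :=
    hasCompanion_base h4 hodd h5 hP
  obtain ⟨g, hga, hgb, hgc, hgd⟩ := SharplyK.move_four h4 n1 n2 n3 n4 n5 n6 hab hac had hbc hbd hcd
  have hS : ∀ x, x ∈ ({a, b, c, d} : Finset α) ↔ g⁻¹ • x ∈ ({a', b', c', d'} : Finset α) := fun x => by
    simp only [Finset.mem_insert, Finset.mem_singleton, inv_smul_eq_iff, hga, hgb, hgc, hgd]
  have hMg : ∀ x, x ∈ M.image (g • ·) ↔ g⁻¹ • x ∈ M := fun x => by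
    simp only [Finset.mem_image]
    exact ⟨fun ⟨y, hy, h⟩ => by rw [← h, inv_smul_smul]; exact hy, fun h => ⟨_, h, smul_inv_smul g x⟩⟩
  refine ⟨M.image (g • ·), ?_, ?_, fun x hx hxM => hMd _ ((hS x).mp hx) ((hMg x).mp hxM),
    fun k hk x hx => ?_⟩
  · rwa [Finset.card_image_of_injective _ (MulAction.injective g)]
  · rwa [Finset.card_image_of_injective _ (MulAction.injective g)]
  rw [hMg]
  have := hM (g⁻¹ * k * g) (fun y hy => by
    rw [mul_smul, mul_smul]
    exact (hS _).mp (hk _ ((hS _).mpr (by rwa [inv_smul_smul])))) _ ((hMg x).mp hx)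
  rwa [mul_smul, mul_smul, smul_inv_smul] at this

end Cfsg.Agent.Lib.FourOdd
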