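import Cfsg.Agent.Lib.FourOdd.Companion
import Cfsg.Agent.Lib.ZStar.Final
import Cfsg.Agent.Lib.Signalizer.LayerBasic

/-!
The case without commuting involutions fixing two common points.
-/

set_option autoImplicit false
set_option linter.unusedSectionVars false

namespace Cfsg.Agent.Lib.FourOdd

open MulAction Finset
open Cfsg.Agent.Lib.Perm.KleinOdd (cent mem_cent card_formula)

universe u v

variable {G : Type u} [Group G] [Finite G] {α : Type v} [MulAction G α] [Fintype α] [DecidableEq α]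
  [FaithfulSMul G α]

/-- The subgroup generated by the commutators of `s` with `K`. -/
def commGen (s : G) (K : Subgroup G) : Subgroup G :=
  Subgroup.closure {x | ∃ g ∈ K, s * g * s⁻¹ * g⁻¹ = x}

theorem conj_mem_commGen {s : G} {K : Subgroup G} {h : G}
    (hh : ∀ g ∈ K, h * (s * g * s⁻¹ * g⁻¹) * h⁻¹ ∈ commGen s K) {x : G} (hx : x ∈ commGen s K) :
    h * x * h⁻¹ ∈ commGen s K := by
  induction hx using Subgroup.closure_induction with
  | mem x hx => obtain ⟨g, hg, rfl⟩ := hx; exact hh g hg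
  | one => simp
  | mul a b _ _ ha hb =>
    rw [show h * (a * b) * h⁻¹ = (h * a * h⁻¹) * (h * b * h⁻¹) by group]; exact mul_mem ha hb
  | inv a _ ha =>
    rw [show h * a⁻¹ * h⁻¹ = (h * a * h⁻¹)⁻¹ by group]; exact inv_mem ha

theorem commGen_normal {s : G} {K : Subgroup G} {h : G} (hh : h ∈ K) {x : G}
    (hx : x ∈ commGen s K) : h * x * h⁻¹ ∈ commGen s K := by
  refine conj_mem_commGen (fun g hg => ?_) hx
  rw [show h * (s * g * s⁻¹ * g⁻¹) * h⁻¹ =
    (s * h * s⁻¹ * h⁻¹)⁻¹ * (s * (h * g) * s⁻¹ * (h * g)⁻¹) by group]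
  exact mul_mem (inv_mem (Subgroup.subset_closure ⟨h, hh, rfl⟩))
    (Subgroup.subset_closure ⟨h * g, mul_mem hh hg, rfl⟩)

theorem commGen_odd {s : G} {K : Subgroup G} (hsK : s ∈ K) (hs2 : orderOf s = 2)
    (hiso : ∀ g ∈ K, s * (g * s * g⁻¹) = g * s * g⁻¹ * s → g * s * g⁻¹ = s) :
    Odd (Nat.card (commGen s K)) ∧ commGen s K ≤ K := by
  have hle : commGen s K ≤ K := (Subgroup.closure_le K).mpr (by
    rintro _ ⟨g, hg, rfl⟩
    exact mul_mem (mul_mem (mul_mem hsK hg) (inv_mem hsK)) (inv_mem hg))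
  have hisol : Cfsg.IsIsolatedInvolution (⟨s, hsK⟩ : K) := by
    refine ⟨by rw [Subgroup.orderOf_mk, hs2], fun g hg => Subtype.ext ?_⟩
    exact hiso g g.2 (congrArg Subtype.val hg.eq)
  have hsub : commGen s K ≤ (Cfsg.oddCore K).map K.subtype := (Subgroup.closure_le _).mpr (by
    rintro _ ⟨g, hg, rfl⟩
    exact ⟨_, ZStar.zStar K _ hisol ⟨g, hg⟩, rfl⟩)
  refine ⟨Odd.of_dvd_nat ?_ (Subgroup.card_dvd_of_le hsub), hle⟩
  rw [Subgroup.card_map_of_injective K.subtype_injective]
  exact PLayerBasic.oddCore_odd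

/-- An orbit index bound. -/
theorem card_le_mul_inf (T : Subgroup G) (e : α) {n : ℕ} {F : Finset α}
    (hF : ∀ x ∈ T, x • e ∈ F) (hn : F.card ≤ n) :
    Nat.card T ≤ n * Nat.card (T ⊓ stabilizer G e : Subgroup G) := by
  classical
  haveI := Fintype.ofFinite G
  rw [Nat.card_eq_fintype_card, ← Finset.card_univ]
  refine (Finset.card_le_mul_card_image_of_maps_to (f := fun x : T => (x : G) • e) (t := F)
    (fun x _ => hF x x.2) (Nat.card (T ⊓ stabilizer G e : Subgroup G)) fun b _ => ?_).trans ?_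
  · rcases (univ.filter fun x : T => (x : G) • e = b).eq_empty_or_nonempty with h | ⟨x₀, hx₀⟩
    · rw [h]; simp
    · rw [Nat.card_eq_fintype_card, ← Finset.card_univ]
      simp only [Finset.mem_filter, Finset.mem_univ, true_and] at hx₀
      refine Finset.card_le_card_of_injOn
        (fun x : T => if h : (x₀ : G)⁻¹ * x ∈ T ⊓ stabilizer G e then ⟨_, h⟩ else 1)
        (fun x _ => Finset.mem_univ _) ?_
      intro x hx y hy hxy
      simp only [Finset.coe_filter, Finset.mem_univ, true_and, Set.mem_setOf_eq] at hx hy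
      have hmem : ∀ z : T, (z : G) • e = b → (x₀ : G)⁻¹ * z ∈ T ⊓ stabilizer G e := fun z hz =>
        ⟨T.mul_mem (T.inv_mem x₀.2) z.2, by
          show ((x₀ : G)⁻¹ * z) • e = e
          rw [mul_smul, hz, ← hx₀, inv_smul_smul]⟩
      simp only [dif_pos (hmem x hx), dif_pos (hmem y hy)] at hxy
      exact Subtype.ext (mul_left_cancel (congrArg Subtype.val hxy))
  · rw [mul_comm]; exact Nat.mul_le_mul_right _ hn

variable (h4 : IsMultiplyPretransitive G α 4) (hodd : OddFour G α)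
include h4 hodd

/-- The degree in the isolated case. -/
theorem bound_of_not_paired (hP : ¬ Paired G α) (h6 : 6 ≤ Fintype.card α) :
    (Even (Fintype.card α) → Fintype.card α ≤ 6) ∧ Fintype.card α ≤ 11 := by
  classical
  obtain ⟨a₀, b₀, hab₀⟩ := Fintype.exists_pair_of_one_lt_card (show 1 < Fintype.card α by omega)
  obtain ⟨c₀, hc₀, d₀, hd₀, hcd₀⟩ := Finset.one_lt_card.mp
    (show 1 < (({a₀, b₀} : Finset α)ᶜ).card by rw [Finset.card_compl, Finset.card_pair hab₀]; omega)
  simp only [Finset.mem_compl, Finset.mem_insert, Finset.mem_singleton, not_or] at hc₀ hd₀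
  obtain ⟨s, hsr, hsr', hsp, hsq, hs⟩ := exists_swap h4 hodd hcd₀ hc₀.1 hc₀.2 hd₀.1 hd₀.2 hab₀
  set p := a₀; set q := b₀; set r := c₀; set r' := d₀
  have hs1 : s ≠ 1 := fun h => hcd₀ (by rw [← hsr, h, one_smul])
  set K : Subgroup G := stabilizer G p ⊓ stabilizer G q with hK
  have hKmem : ∀ {g : G}, g ∈ K ↔ g • p = p ∧ g • q = q := by simp [hK, mem_stabilizer_iff]
  have hsK : s ∈ K := hKmem.mpr ⟨hsp, hsq⟩
  have hs2 : orderOf s = 2 := orderOf_eq_prime (by rw [pow_two, hs]) hs1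
  have hiso : ∀ g ∈ K, s * (g * s * g⁻¹) = g * s * g⁻¹ * s → g * s * g⁻¹ = s := by
    intro g hg hcomm
    by_contra hne
    obtain ⟨hgp, hgq⟩ := hKmem.mp (mul_mem (mul_mem hg hsK) (inv_mem hg))
    refine hP ⟨s, g * s * g⁻¹, p, q, hs, ?_, hcomm, hs1, ?_, Ne.symm hne, hab₀, hsp, hsq, hgp, hgq⟩
    · rw [show g * s * g⁻¹ * (g * s * g⁻¹) = g * (s * s) * g⁻¹ by group, hs]; group
    · intro h
      exact hs1 (by
        rw [show s = g⁻¹ * (g * s * g⁻¹) * g by group, h]; group)
  obtain ⟨hOodd, hOK⟩ := commGen_odd hsK hs2 hiso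
  set O := commGen s K with hO
  set Ω : Finset α := ({p, q} : Finset α)ᶜ with hΩ
  have hΩmem : ∀ {x : α}, x ∈ Ω ↔ x ≠ p ∧ x ≠ q := by simp [hΩ, not_or]
  have hΩcard : Ω.card + 2 = Fintype.card α := by
    rw [hΩ, Finset.card_compl, Finset.card_pair hab₀]; omega
  have hKΩ : ∀ g ∈ K, ∀ x ∈ Ω, g • x ∈ Ω := by
    intro g hg x hx
    obtain ⟨g1, g2⟩ := hKmem.mp hg
    obtain ⟨x1, x2⟩ := hΩmem.mp hx
    exact hΩmem.mpr ⟨fun h => x1 (smul_left_cancel g (h.trans g1.symm)),
      fun h => x2 (smul_left_cancel g (h.trans g2.symm))⟩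
  have htwo : ∀ x ∈ Ω, ∀ y ∈ Ω, ∀ x' ∈ Ω, ∀ y' ∈ Ω, x ≠ y → x' ≠ y' →
      ∃ g ∈ K, g • x = x' ∧ g • y = y' := by
    intro x hx y hy x' hx' y' hy' hne hne'
    rw [hΩmem] at hx hy hx' hy'
    obtain ⟨g, h1, h2, h3, h5⟩ := SharplyK.move_four h4 hab₀ hx.1.symm hy.1.symm hx.2.symm hy.2.symm
      hne hab₀ hx'.1.symm hy'.1.symm hx'.2.symm hy'.2.symm hne'
    exact ⟨g, hKmem.mpr ⟨h1, h2⟩, h3, h5⟩
  -- an orbit of `O` is trivial or everything
  have horbit : ∀ x ∈ Ω, (∃ o ∈ O, o • x ≠ x) → ∀ y ∈ Ω, ∃ o ∈ O, o • x = y := by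
    rintro x hx ⟨o, ho, hox⟩ y hy
    by_cases hyx : y = x
    · exact ⟨1, one_mem _, by rw [one_smul, hyx]⟩
    obtain ⟨g, hg, hgx, hgy⟩ :=
      htwo x hx _ (hKΩ o (hOK ho) x hx) x hx y hy (Ne.symm hox) (Ne.symm hyx)
    exact ⟨g * o * g⁻¹, commGen_normal hg ho, by
      rw [mul_smul, mul_smul, inv_smul_eq_iff.mpr hgx.symm, hgy]⟩
  have horbcard : ∀ x ∈ Ω, (∃ o ∈ O, o • x ≠ x) → Nat.card (orbit O x) = Ω.card := by
    intro x hx hmoved
    rw [← Nat.card_eq_finsetCard]
    refine Nat.card_congr (Equiv.subtypeEquivRight fun y => ?_)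
    refine ⟨?_, fun hy => ?_⟩
    · rintro ⟨⟨o, ho⟩, rfl⟩; exact hKΩ o (hOK ho) x hx
    · obtain ⟨o, ho, h⟩ := horbit x hx hmoved y hy
      exact ⟨⟨o, ho⟩, h⟩
  have hOtriv : (∀ o ∈ O, ∀ x ∈ Ω, o • x = x) → False := by
    intro h
    have hcomm : ∀ g ∈ K, s * g = g * s := by
      intro g hg
      have hmem : s * g * s⁻¹ * g⁻¹ ∈ O := Subgroup.subset_closure ⟨g, hg, rfl⟩
      have h1 : s * g * s⁻¹ * g⁻¹ = 1 := eq_of_smul_eq_smul fun x : α => by
        rw [one_smul]
        by_cases hx : x ∈ Ω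
        · exact h _ hmem x hx
        · obtain ⟨k1, k2⟩ := hKmem.mp (hOK hmem)
          simp only [hΩ, Finset.mem_compl, not_not, Finset.mem_insert, Finset.mem_singleton] at hx
          rcases hx with rfl | rfl <;> assumption
      calc s * g = (s * g * s⁻¹ * g⁻¹) * (g * s) := by group
        _ = g * s := by rw [h1, one_mul]
    obtain ⟨z, hz⟩ : ∃ z, z ∈ Ω \ ({r, r'} : Finset α) := Finset.card_pos.mp (by
      have := Finset.le_card_sdiff ({r, r'} : Finset α) Ω
      have : ({r, r'} : Finset α).card ≤ 2 := Finset.card_le_two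
      omega)
    simp only [Finset.mem_sdiff, Finset.mem_insert, Finset.mem_singleton, not_or] at hz
    obtain ⟨g, hg, hgr, hgr'⟩ := htwo r (hΩmem.mpr hc₀) r' (hΩmem.mpr hd₀) r (hΩmem.mpr hc₀) z hz.1
      hcd₀ (Ne.symm hz.2.1)
    have := congrArg (fun k : G => k • r) (hcomm g hg)
    simp only [mul_smul, hgr, hsr, hgr'] at this
    exact hz.2.2 this.symm
  constructor
  · intro heven
    by_contra hc
    refine hOtriv fun o ho x hx => ?_
    by_contra hne
    have h1 : Nat.card (orbit O x) * Nat.card (stabilizer O x) = Nat.card O := by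
      rw [← Nat.card_prod]; exact Nat.card_congr (orbitProdStabilizerEquivGroup O x)
    rw [horbcard x hx ⟨o, ho, hne⟩] at h1
    have h2 : Odd Ω.card := hOodd.of_dvd_nat ⟨_, h1.symm⟩
    obtain ⟨j, hj⟩ := h2; obtain ⟨i, hi⟩ := heven
    omega
  · by_cases hev : Even (Fintype.card α)
    · by_contra hc
      refine hOtriv fun o ho x hx => ?_
      by_contra hne
      have h1 : Nat.card (orbit O x) * Nat.card (stabilizer O x) = Nat.card O := by
        rw [← Nat.card_prod]; exact Nat.card_congr (orbitProdStabilizerEquivGroup O x)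
      rw [horbcard x hx ⟨o, ho, hne⟩] at h1
      obtain ⟨j, hj⟩ : Odd Ω.card := hOodd.of_dvd_nat ⟨_, h1.symm⟩
      obtain ⟨i, hi⟩ := hev
      omega
    have hoddn : Fintype.card α % 2 = 1 := Nat.not_even_iff.mp hev
    set F := fixF (α := α) s with hF
    have hFle : F.card ≤ 3 := card_fixF_le hodd hs hs1
    have hFmod : F.card % 2 = 1 := by rw [hF, card_fixF_mod hs, hoddn]
    obtain ⟨e, he, hep, heq⟩ : ∃ e ∈ F, e ≠ p ∧ e ≠ q := by
      by_contra hcon
      push Not at hcon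
      have h1 : F = {p, q} := by
        refine Finset.Subset.antisymm (fun x hx => ?_) (fun x hx => ?_)
        · by_cases h : x = p
          · simp [h]
          · simp [hcon x hx h]
        · simp only [Finset.mem_insert, Finset.mem_singleton] at hx
          rcases hx with rfl | rfl <;> exact mem_fixF.mpr (by assumption)
      rw [h1, Finset.card_pair hab₀] at hFmod
      omega
    have hFeq : F = {p, q, e} := (Finset.eq_of_subset_of_card_le (fun x hx => by
      simp only [Finset.mem_insert, Finset.mem_singleton] at hx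
      rcases hx with rfl | rfl | rfl
      exacts [mem_fixF.mpr hsp, mem_fixF.mpr hsq, he])
      (by rw [Finset.card_eq_three.mpr ⟨p, q, e, hab₀, hep.symm, heq.symm, rfl⟩]; omega)).symm
    have heΩ : e ∈ Ω := hΩmem.mpr ⟨hep, heq⟩
    -- the other involution
    obtain ⟨u, hup, huq, hur, hur', hu, hsu⟩ := exists_swap_comm h4 hodd hab₀ (Ne.symm hc₀.1) (Ne.symm hd₀.1)
      (Ne.symm hc₀.2) (Ne.symm hd₀.2) hcd₀ hs (Or.inl ⟨hsp, hsq⟩) (Or.inr ⟨hsr, hsr'⟩)
    have hu1 : u ≠ 1 := fun h => hab₀ (by rw [← hup, h, one_smul])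
    have hue : u • e = e := by
      have h := smul_mem_fixF (α := α) hsu he
      rw [← hF, hFeq, Finset.mem_insert, Finset.mem_insert, Finset.mem_singleton] at h
      rcases h with h | h | h
      · exact absurd (smul_left_cancel u (h.trans huq.symm)) heq
      · exact absurd (smul_left_cancel u (h.trans hup.symm)) hep
      · exact h
    have hse : s • e = e := mem_fixF.mp he
    have hsinv : s⁻¹ = s := inv_eq_of_mul_eq_one_right hs
    have huinv : u⁻¹ = u := inv_eq_of_mul_eq_one_right hu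
    have huK : ∀ g ∈ K, u * g * u⁻¹ ∈ K := fun g hg => by
      obtain ⟨g1, g2⟩ := hKmem.mp hg
      rw [huinv]
      refine hKmem.mpr ⟨?_, ?_⟩ <;> simp [mul_smul, *]
    have hnormU : ∀ x ∈ O, u * x * u ∈ O := fun x hx => by
      have := conj_mem_commGen (h := u) (fun g hg => ?_) hx
      · rwa [huinv] at this
      rw [show u * (s * g * s⁻¹ * g⁻¹) * u⁻¹ = (u * s * u⁻¹) * (u * g * u⁻¹) * (u * s * u⁻¹)⁻¹ *
        (u * g * u⁻¹)⁻¹ by group, ← hsu, mul_inv_cancel_right]
      exact Subgroup.subset_closure ⟨_, huK g hg, rfl⟩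
    have hnormS : ∀ x ∈ O, s * x * s ∈ O := fun x hx => by
      have := commGen_normal hsK hx; rwa [hsinv] at this
    set Oe : Subgroup G := O ⊓ stabilizer G e with hOe
    have hOemem : ∀ {x : G}, x ∈ Oe ↔ x ∈ O ∧ x • e = e := by simp [hOe, mem_stabilizer_iff]
    have hnorm' : ∀ v : G, v • e = e → (∀ x ∈ O, v * x * v ∈ O) → ∀ x ∈ Oe, v * x * v ∈ Oe :=
      fun v hv hn x hx => hOemem.mpr ⟨hn x (hOemem.mp hx).1, by
        rw [mul_smul, mul_smul, hv, (hOemem.mp hx).2, hv]⟩
    have e1 := card_formula (K := O) hOodd hs hu hsu hnormS hnormU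
    have e2 := card_formula (K := Oe) (hOodd.of_dvd_nat (Subgroup.card_dvd_of_le inf_le_left)) hs hu hsu
      (hnorm' s hse hnormS) (hnorm' u hue hnormU)
    have hcent_eq : ∀ w : G, cent O w ⊓ stabilizer G e = cent Oe w := fun w => by
      ext x; simp only [Subgroup.mem_inf, mem_cent, hOemem, mem_stabilizer_iff]; tauto
    have hsC : cent O s = cent Oe s := by
      ext x
      rw [mem_cent, mem_cent, hOemem]
      refine ⟨fun ⟨hx, hxs⟩ => ⟨⟨hx, ?_⟩, hxs⟩, fun ⟨⟨hx, _⟩, hxs⟩ => ⟨hx, hxs⟩⟩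
      have h := smul_mem_fixF (α := α) hxs he
      obtain ⟨x1, x2⟩ := hKmem.mp (hOK hx)
      rw [← hF, hFeq, Finset.mem_insert, Finset.mem_insert, Finset.mem_singleton] at h
      rcases h with h | h | h
      · exact absurd (smul_left_cancel x (h.trans x1.symm)) hep
      · exact absurd (smul_left_cancel x (h.trans x2.symm)) heq
      · exact h
    have hbd : ∀ w : G, w * w = 1 → w ≠ 1 → w • e = e → Nat.card (cent O w) ≤ 3 * Nat.card (cent Oe w) := by
      intro w hw hw1 hwe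
      rw [← hcent_eq]
      exact card_le_mul_inf (cent O w) e (fun x hx => smul_mem_fixF (mem_cent.mp hx).2 (mem_fixF.mpr hwe))
        (card_fixF_le hodd hw hw1)
    have hsu2 : s * u * (s * u) = 1 := by
      rw [show s * u * (s * u) = s * (u * s) * u by group, ← hsu,
        show s * (s * u) * u = (s * s) * (u * u) by group, hs, hu, one_mul]
    have hsu1 : s * u ≠ 1 := fun h => hcd₀ (by
      have := congrArg (fun k : G => k • r) h
      rw [one_smul, mul_smul, hur, hsr] at this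
      exact this.symm)
    have b1 := hbd u hu hu1 hue
    have b2 := hbd (s * u) hsu2 hsu1 (by rw [mul_smul, hue, hse])
    have hmoved : ∃ o ∈ O, o • e ≠ e := by
      by_contra hcon
      push Not at hcon
      refine hOtriv fun o ho x hx => ?_
      by_cases hxe : x = e
      · rw [hxe]; exact hcon o ho
      by_contra hne
      obtain ⟨o', ho', h⟩ := horbit x hx ⟨o, ho, hne⟩ e heΩ
      exact hxe (by rw [← inv_smul_smul o' x, h]; exact hcon _ (inv_mem ho'))
    have hN : Ω.card * Nat.card Oe = Nat.card O := by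
      rw [← horbcard e heΩ hmoved, ← Nat.card_prod]
      refine Nat.card_congr ((Equiv.prodCongr (Equiv.refl _) ?_).trans (orbitProdStabilizerEquivGroup O e))
      exact
        { toFun := fun x => ⟨⟨x.1, (hOemem.mp x.2).1⟩, (hOemem.mp x.2).2⟩
          invFun := fun x => ⟨x.1.1, hOemem.mpr ⟨x.1.2, x.2⟩⟩
          left_inv := fun x => rfl
          right_inv := fun x => rfl }
    rw [← hsC] at e2
    have hV : cent (cent O s) u = cent (cent Oe s) u := by rw [hsC]
    rw [← hN] at e1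
    have hpos : 0 < Nat.card Oe * Nat.card (cent (cent O s) u) ^ 2 :=
      Nat.mul_pos Nat.card_pos (Nat.pow_pos Nat.card_pos)
    have h9 : Ω.card * (Nat.card Oe * Nat.card (cent (cent O s) u) ^ 2) ≤
        9 * (Nat.card Oe * Nat.card (cent (cent O s) u) ^ 2) := by
      rw [← mul_assoc, e1, e2]
      calc Nat.card (cent O s) * Nat.card (cent O u) * Nat.card (cent O (s * u))
          ≤ Nat.card (cent O s) * (3 * Nat.card (cent Oe u)) * (3 * Nat.card (cent Oe (s * u))) := by
            gcongr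
        _ = 9 * (Nat.card (cent O s) * Nat.card (cent Oe u) * Nat.card (cent Oe (s * u))) := by ring
    have := Nat.le_of_mul_le_mul_right h9 hpos
    omega

end Cfsg.Agent.Lib.FourOdd
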