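import Cfsg.Agent.Lib.FourOdd.Bound
import Cfsg.Agent.S0713

/-!
M. Hall's theorem on 4-transitive groups with four-point stabiliser of odd order.
-/

set_option autoImplicit false
set_option linter.unusedSectionVars false
set_option linter.style.haveILetI false

namespace Cfsg.Agent.Lib.FourOdd

open MulAction Finset

universe v

variable {α : Type v} [Fintype α] [DecidableEq α] {G : Subgroup (Equiv.Perm α)}

theorem card_eq (h4 : IsMultiplyPretransitive G α 4) (x : Fin 4 ↪ α) :
    Nat.card G = (Fintype.card α).descFactorial 4 * Nat.card (stabilizer G x) := by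
  haveI : IsPretransitive G (Fin 4 ↪ α) := h4
  rw [← Nat.card_congr (orbitProdStabilizerEquivGroup G x), Nat.card_prod]
  congr 1
  refine (Nat.card_congr (Equiv.subtypeUnivEquiv fun y => ?_)).trans ?_
  · exact h4.exists_smul_eq x y
  · rw [Nat.card_eq_fintype_card, Fintype.card_embedding_eq, Fintype.card_fin]

theorem mem_stab {g : G} {x : Fin 4 ↪ α} : g ∈ stabilizer G x ↔ ∀ i, g • x i = x i := by
  rw [mem_stabilizer_iff, DFunLike.ext_iff]; rfl

theorem oddFour_of_stab (h4 : IsMultiplyPretransitive G α 4) (x : Fin 4 ↪ α)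
    (hodd : Odd (Nat.card (stabilizer G x))) : OddFour G α := by
  intro g a b c d hab hac had hbc hbd hcd ha hb hc hd
  obtain ⟨k, ka, kb, kc, kd⟩ := SharplyK.move_four h4 (x.injective.ne (by decide : (0 : Fin 4) ≠ 1))
    (x.injective.ne (by decide : (0 : Fin 4) ≠ 2)) (x.injective.ne (by decide : (0 : Fin 4) ≠ 3))
    (x.injective.ne (by decide : (1 : Fin 4) ≠ 2)) (x.injective.ne (by decide : (1 : Fin 4) ≠ 3))
    (x.injective.ne (by decide : (2 : Fin 4) ≠ 3)) hab hac had hbc hbd hcd
  have hk : k⁻¹ * g * k ∈ stabilizer G x := mem_stab.mpr fun i => by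
    rw [mul_smul, mul_smul, inv_smul_eq_iff]
    fin_cases i
    · show g • k • x 0 = k • x 0; rw [ka, ha]
    · show g • k • x 1 = k • x 1; rw [kb, hb]
    · show g • k • x 2 = k • x 2; rw [kc, hc]
    · show g • k • x 3 = k • x 3; rw [kd, hd]
  have h1 : orderOf (k⁻¹ * g * k) = orderOf g := by
    rw [show k⁻¹ * g * k = MulAut.conj k⁻¹ g by simp [MulAut.conj_apply]]
    exact orderOf_injective (MulAut.conj k⁻¹).toMonoidHom (MulAut.conj k⁻¹).injective g
  refine Odd.of_dvd_nat hodd (dvd_trans ?_ (Subgroup.card_dvd_of_le (Subgroup.zpowers_le.mpr hk)))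
  rw [Nat.card_zpowers, h1]

/-- A subgroup with a full Sylow subgroup contains a conjugate of each element of prime power order. -/
theorem exists_conj_mem {q : ℕ} [hq : Fact q.Prime] (hdvd : q ^ (Nat.card (Equiv.Perm α)).factorization q ∣ Nat.card G)
    (c : Equiv.Perm α) (hc : ∃ j, orderOf c = q ^ j) : ∃ g : Equiv.Perm α, g * c * g⁻¹ ∈ G := by
  obtain ⟨P, hP⟩ := Sylow.exists_subgroup_card_pow_prime q hdvd
  set Q : Sylow q (Equiv.Perm α) := Sylow.ofCard (P.map G.subtype)
    (by rw [Subgroup.card_map_of_injective G.subtype_injective, hP]) with hQdef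
  obtain ⟨j, hj⟩ := hc
  obtain ⟨R, hR⟩ := (IsPGroup.of_card (n := j) (by rw [Nat.card_zpowers, hj]) :
    IsPGroup q (Subgroup.zpowers c)).exists_le_sylow
  obtain ⟨g, hg⟩ := MulAction.exists_smul_eq (Equiv.Perm α) R Q
  refine ⟨g, Subgroup.map_subtype_le P ?_⟩
  have h1 : g * c * g⁻¹ ∈ ((g • R : Sylow q (Equiv.Perm α)) : Subgroup (Equiv.Perm α)) := by
    rw [Sylow.coe_subgroup_smul]
    exact ⟨c, hR (Subgroup.mem_zpowers c), rfl⟩
  rwa [hg, hQdef, Sylow.coe_ofCard] at h1

theorem not_alternating_le (hodd : OddFour G α) (h6 : 8 ≤ Fintype.card α) :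
    ¬ alternatingGroup α ≤ G := by
  intro hle
  let e : Fin 8 ↪ α :=
    ((Fin.castLEEmb h6).trans (Fintype.equivFin α).symm.toEmbedding)
  set g : Equiv.Perm α := Equiv.swap (e 0) (e 1) * Equiv.swap (e 2) (e 3) with hg
  have hne : ∀ {i j : Fin 8}, i ≠ j → e i ≠ e j := fun h => e.injective.ne h
  have hgmem : g ∈ alternatingGroup α := by
    rw [Equiv.Perm.mem_alternatingGroup, hg, map_mul,
      Equiv.Perm.sign_swap (hne (by decide)), Equiv.Perm.sign_swap (hne (by decide))]
    rfl
  have hfix : ∀ i : Fin 8, 4 ≤ (i : ℕ) → g (e i) = e i := fun i hi => by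
    simp only [hg, Equiv.Perm.mul_apply]
    rw [Equiv.swap_apply_of_ne_of_ne (hne (by omega)) (hne (by omega)),
      Equiv.swap_apply_of_ne_of_ne (hne (by omega)) (hne (by omega))]
  have h2 : g * g = 1 := by
    have hc : Commute (Equiv.swap (e 0) (e 1)) (Equiv.swap (e 2) (e 3)) := by
      refine Equiv.Perm.Disjoint.commute ?_
      rw [Equiv.Perm.disjoint_iff_disjoint_support, Equiv.Perm.support_swap (hne (by decide)),
        Equiv.Perm.support_swap (hne (by decide))]
      simp [hne (show (0 : Fin 8) ≠ 2 by decide), hne (show (0 : Fin 8) ≠ 3 by decide),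
        hne (show (1 : Fin 8) ≠ 2 by decide), hne (show (1 : Fin 8) ≠ 3 by decide)]
    rw [hg, ← mul_assoc, mul_assoc (Equiv.swap (e 0) (e 1)), ← hc.eq, ← mul_assoc,
      Equiv.swap_mul_self, one_mul, Equiv.swap_mul_self]
  have h3 : (⟨g, hle hgmem⟩ : G) = 1 := eq_one_of_sq_of_odd (Subtype.ext h2)
    (hodd _ (e 4) (e 5) (e 6) (e 7) (hne (by decide)) (hne (by decide)) (hne (by decide))
      (hne (by decide)) (hne (by decide)) (hne (by decide)) (hfix 4 (by decide)) (hfix 5 (by decide))
      (hfix 6 (by decide)) (hfix 7 (by decide)))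
  have h5 : g (e 0) = e 0 := by rw [show g = 1 from congrArg Subtype.val h3]; rfl
  simp only [hg, Equiv.Perm.mul_apply] at h5
  rw [Equiv.swap_apply_of_ne_of_ne (hne (by decide)) (hne (by decide)), Equiv.swap_apply_left] at h5
  exact hne (by decide) h5

theorem alternating_le_of_prime (h4 : IsMultiplyPretransitive G α 4) (h11 : Fintype.card α = 11)
    {q : ℕ} [hq : Fact q.Prime] (hq8 : q ≤ 8)
    (hdvd : q ^ (Nat.card (Equiv.Perm α)).factorization q ∣ Nat.card G) : alternatingGroup α ≤ G := by
  classical
  have h1 : q ≤ Fintype.card α := by omega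
  obtain ⟨s, -, hs⟩ := Finset.exists_subset_card_eq (s := (univ : Finset α)) (n := q)
    (by rw [Finset.card_univ]; exact h1)
  obtain ⟨c, hc, hcs⟩ : ∃ c : Equiv.Perm α, c.IsCycle ∧ c.support.card = q := by
    refine ⟨s.toList.formPerm, List.isCycle_formPerm s.nodup_toList ?_, ?_⟩
    · rw [Finset.length_toList, hs]; exact hq.out.two_le
    · rw [List.support_formPerm_of_nodup _ s.nodup_toList, Finset.toList_toFinset, hs]
      intro x hx
      have := congrArg List.length hx
      rw [Finset.length_toList, hs] at this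
      exact absurd this (by have := hq.out.two_le; simp; omega)
  obtain ⟨g, hg⟩ := exists_conj_mem hdvd c ⟨1, by rw [hc.orderOf, hcs, pow_one]⟩
  haveI : IsMultiplyPretransitive G α 2 :=
    isMultiplyPretransitive_of_le (n := 4) (by norm_num) (by rw [Nat.card_eq_fintype_card, h11]; norm_num)
  have hprim : IsPreprimitive G α := isPreprimitive_of_is_two_pretransitive inferInstance
  exact Cfsg.Agent.S0713.result G hprim hq.out (by omega) (by omega)
    (g := g * c * g⁻¹) hc.conj (by rw [Equiv.Perm.card_support_conj]; exact hcs) hg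

theorem order_ne_23760 (h4 : IsMultiplyPretransitive G α 4) (h11 : Fintype.card α = 11)
    (hG : Nat.card G = 23760) : False := by
  classical
  haveI : Fact (Nat.Prime 11) := ⟨by norm_num⟩
  have P : Sylow 11 G := default
  have hPcard : Nat.card P = 11 := by
    rw [Sylow.card_eq_multiplicity, hG]
    have : Nat.factorization 23760 11 = 1 := by
      rw [Nat.factorization_def _ (by norm_num : Nat.Prime 11)]
      rw [show (23760 : ℕ) = 11 * 2160 by norm_num, padicValNat.mul (by norm_num) (by norm_num),
        padicValNat.self (by norm_num), padicValNat.eq_zero_of_not_dvd (by norm_num)]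
    rw [this, pow_one]
  haveI hcyc : IsCyclic P := isCyclic_of_prime_card hPcard
  obtain ⟨z, hz⟩ : ∃ z : P, z ≠ 1 := by
    haveI : Nontrivial P := Finite.one_lt_card_iff_nontrivial.mp (by rw [hPcard]; norm_num)
    exact exists_ne 1
  have hz11 : orderOf ((z : G) : Equiv.Perm α) = 11 := by
    rw [Subgroup.orderOf_coe, Subgroup.orderOf_coe]
    have := (orderOf_dvd_natCard z).trans (dvd_of_eq hPcard)
    rcases (Nat.dvd_prime (by norm_num)).mp this with h | h
    · exact absurd (orderOf_eq_one_iff.mp h) hz
    · exact h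
  have hzc : ((z : G) : Equiv.Perm α).IsCycle := by
    refine Equiv.Perm.isCycle_of_prime_order (by rw [hz11]; norm_num) ?_
    have := Finset.card_le_univ ((z : G) : Equiv.Perm α).support
    rw [h11] at this
    rw [hz11]; omega
  have hsupp : ((z : G) : Equiv.Perm α).support = univ := by
    refine Finset.eq_univ_of_card _ ?_
    rw [← hzc.orderOf, hz11, h11]
  obtain ⟨x0⟩ : Nonempty α := Fintype.card_pos_iff.mp (by omega)
  set N : Subgroup G := Subgroup.normalizer ((P : Subgroup G) : Set G) with hN
  set f := (P : Subgroup G).normalizerMonoidHom with hf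
  have hker_le : Nat.card f.ker ≤ 11 := by
    refine le_of_le_of_eq ?_ (Nat.card_eq_fintype_card.trans h11 : Nat.card α = 11)
    refine Nat.card_le_card_of_injective (fun x => ((x : N) : G) • x0) fun x y e => ?_
    have hcomm : ∀ w : f.ker, ((w : N) : G) * (z : G) = (z : G) * ((w : N) : G) := fun w => by
      have hw := (SetLike.ext_iff.mp
        (Subgroup.normalizerMonoidHom_ker (H := (P : Subgroup G))) _).mp w.2
      rw [Subgroup.mem_subgroupOf, Subgroup.mem_centralizer_iff] at hw
      exact (hw _ z.2).symm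
    refine Subtype.ext (Subtype.ext (Subtype.ext (Equiv.ext fun w => ?_)))
    obtain ⟨i, hi⟩ := hzc.exists_zpow_eq (x := x0) (y := w)
      (Equiv.Perm.mem_support.mp (by rw [hsupp]; exact Finset.mem_univ _))
      (Equiv.Perm.mem_support.mp (by rw [hsupp]; exact Finset.mem_univ _))
    have key : ∀ v : f.ker, (((v : N) : G) : Equiv.Perm α) w =
        ((((z : G) : Equiv.Perm α)) ^ i) ((((v : N) : G) : Equiv.Perm α) x0) := fun v => by
      have hv : (((v : N) : G) : Equiv.Perm α) * ((z : G) : Equiv.Perm α) =
          ((z : G) : Equiv.Perm α) * (((v : N) : G) : Equiv.Perm α) := congrArg Subtype.val (hcomm v)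
      rw [← hi, ← Equiv.Perm.mul_apply, (Commute.zpow_right hv i).eq, Equiv.Perm.mul_apply]
    rw [key x, key y]
    exact congrArg _ e
  have hker_ge : 11 ∣ Nat.card f.ker := by
    refine dvd_trans (dvd_of_eq hPcard.symm) ?_
    rw [hf, Subgroup.normalizerMonoidHom_ker]
    rw [Nat.card_congr (Subgroup.subgroupOfEquivOfLe
      (show (P : Subgroup G) ≤ Subgroup.normalizer ((P : Subgroup G) : Set G) from Subgroup.le_normalizer)).symm.toEquiv]
    refine Subgroup.card_dvd_of_le fun w hw => ?_
    rw [Subgroup.mem_subgroupOf] at hw ⊢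
    refine Subgroup.mem_centralizer_iff.mpr fun v hv => ?_
    exact congrArg Subtype.val (IsCyclic.commGroup.mul_comm (⟨v, hv⟩ : P) ⟨(w : G), hw⟩)
  have hker : Nat.card f.ker = 11 := by
    have := Nat.le_of_dvd Nat.card_pos hker_ge
    omega
  have hrange : Nat.card f.range ∣ 10 := by
    have := Subgroup.card_subgroup_dvd_card f.range
    rw [IsCyclic.card_mulAut, show Nat.card (P : Subgroup G) = 11 from hPcard,
      Nat.totient_prime (by norm_num)] at this
    exact this
  have hNcard : Nat.card N = 11 * Nat.card f.range := by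
    have hm := Subgroup.card_mul_index f.ker
    rw [hker, Subgroup.index_ker] at hm
    exact hm.symm
  have h1 := card_sylow_modEq_one 11 G
  have h2 := Subgroup.card_mul_index N
  rw [show N.index = Nat.card (Sylow 11 G) from P.card_eq_index_normalizer.symm, hNcard, hG] at h2
  have h3 : Nat.card f.range ∈ Nat.divisors 10 := Nat.mem_divisors.mpr ⟨hrange, by norm_num⟩
  rw [show Nat.divisors 10 = {1, 2, 5, 10} by decide] at h3
  simp only [Finset.mem_insert, Finset.mem_singleton] at h3
  unfold Nat.ModEq at h1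
  rcases h3 with h | h | h | h <;> rw [h] at h2 <;> omega

/-- M. Hall's theorem. -/
theorem hall_four (h4 : IsMultiplyPretransitive G α 4) (x : Fin 4 ↪ α)
    (hodd : Odd (Nat.card (stabilizer G x))) :
    ((Fintype.card α = 4 ∨ Fintype.card α = 5) ∧ G = ⊤) ∨
      ((Fintype.card α = 6 ∨ Fintype.card α = 7) ∧ G = alternatingGroup α) ∨
      (Fintype.card α = 11 ∧ Nat.card G = 7920) := by
  classical
  have hn4 : 4 ≤ Fintype.card α := by simpa using Fintype.card_le_of_embedding x
  by_cases h5 : Fintype.card α ≤ 5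
  · refine Or.inl ⟨by omega, Equiv.Perm.eq_top_of_isMultiplyPretransitive ?_⟩
    haveI := h4
    exact isMultiplyPretransitive_of_le (n := 4)
      (by rw [Nat.card_eq_fintype_card]; omega) (by rw [Nat.card_eq_fintype_card]; omega)
  have hof := oddFour_of_stab h4 x hodd
  obtain ⟨heven, h11, h9⟩ := degree_bound_odd h4 hof (by omega)
  have hn : Fintype.card α = 6 ∨ Fintype.card α = 7 ∨ Fintype.card α = 11 := by
    rcases Nat.even_or_odd (Fintype.card α) with h | h
    · have := heven h; omega
    · obtain ⟨k, hk⟩ := h; omega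
  have hGcard := card_eq h4 x
  set h := Nat.card (stabilizer G x) with hh
  have hdvd : Nat.card G ∣ (Fintype.card α).factorial := by
    have := Subgroup.card_subgroup_dvd_card G
    rwa [Nat.card_perm, Nat.card_eq_fintype_card (α := α)] at this
  obtain ⟨j, hj⟩ := id hodd
  have hindex := Subgroup.card_mul_index G
  rw [Nat.card_perm, Nat.card_eq_fintype_card (α := α)] at hindex
  rcases hn with hn | hn | hn
  · refine Or.inr (Or.inl ⟨Or.inl hn, Equiv.Perm.eq_alternatingGroup_of_index_eq_two ?_⟩)
    rw [hGcard, hn] at hdvd hindex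
    norm_num [Nat.factorial, Nat.descFactorial] at hdvd hindex
    have h2 : h ∣ 2 := Nat.dvd_of_mul_dvd_mul_left (by norm_num : 0 < 360) hdvd
    have : h = 1 := by have := Nat.le_of_dvd (by norm_num) h2; omega
    rw [this] at hindex
    omega
  · refine Or.inr (Or.inl ⟨Or.inr hn, Equiv.Perm.eq_alternatingGroup_of_index_eq_two ?_⟩)
    rw [hGcard, hn] at hdvd hindex
    norm_num [Nat.factorial, Nat.descFactorial] at hdvd hindex
    have h2 : h ∣ 6 := Nat.dvd_of_mul_dvd_mul_left (by norm_num : 0 < 840) hdvd
    have h6 := Nat.le_of_dvd (by norm_num) h2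
    have h3 : h = 1 ∨ h = 3 := by
      interval_cases h <;> first | omega | norm_num at h2
    rcases h3 with h3 | h3
    · exfalso
      have hsharp : SharplyK.IsSharp G α 4 := by
        intro g l hl hlen hfix
        obtain ⟨a, b, c, d, rfl⟩ : ∃ a b c d, l = [a, b, c, d] := by
          match l, hlen with
          | [a, b, c, d], _ => exact ⟨a, b, c, d, rfl⟩
        simp only [List.nodup_cons, List.mem_cons, List.not_mem_nil, not_or, or_false, List.nodup_nil, and_true, not_false_eq_true] at hl
        obtain ⟨⟨hab, hac, had⟩, ⟨hbc, hbd⟩, hcd⟩ := hl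
        have ha := hfix a (by simp)
        have hb := hfix b (by simp)
        have hc := hfix c (by simp)
        have hd := hfix d (by simp)
        let y : Fin 4 ↪ α := ⟨![a, b, c, d], by
          have := Ne.symm hab; have := Ne.symm hac; have := Ne.symm had
          have := Ne.symm hbc; have := Ne.symm hbd; have := Ne.symm hcd
          intro i i' e
          fin_cases i <;> fin_cases i' <;> first | rfl | exact absurd e (by assumption)⟩
        have hy : g ∈ stabilizer G y := mem_stab.mpr fun i => by fin_cases i <;> assumption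
        have := card_eq h4 y
        rw [hGcard, h3] at this
        have hy1 : Nat.card (stabilizer G y) = 1 := (Nat.eq_of_mul_eq_mul_left
          (Nat.descFactorial_pos.mpr (by omega)) this).symm
        rw [(Subgroup.card_eq_one).mp hy1] at hy
        exact Subgroup.mem_bot.mp hy
      exact SharplyK.degree_ne_add_two h4 hsharp (p := 5) (hp := ⟨by norm_num⟩) le_rfl hn
    · rw [h3] at hindex
      omega
  · refine Or.inr (Or.inr ⟨hn, ?_⟩)
    rw [hn, show Nat.descFactorial 11 4 = 7920 by norm_num [Nat.descFactorial]] at hGcard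
    rw [hGcard, hn, show Nat.factorial 11 = 7920 * 5040 by norm_num [Nat.factorial]] at hdvd
    have h1 : h ∣ 5040 := Nat.dvd_of_mul_dvd_mul_left (by norm_num : 0 < 7920) hdvd
    have hv : ∀ q e m : ℕ, q.Prime → Nat.factorial 11 = q ^ e * m → ¬ q ∣ m →
        (Nat.card (Equiv.Perm α)).factorization q = e := fun q e m hq hm hnd => by
      rw [Nat.card_perm, Nat.card_eq_fintype_card (α := α), hn, hm, Nat.factorization_mul
        (pow_ne_zero _ hq.ne_zero) (by rintro rfl; exact hnd (dvd_zero q)), Finsupp.add_apply,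
        hq.factorization_pow, Finsupp.single_eq_same, Nat.factorization_eq_zero_of_not_dvd hnd, add_zero]
    have hnot : ∀ q e m : ℕ, q.Prime → q ≤ 8 → Nat.factorial 11 = q ^ e * m → ¬ q ∣ m →
        ∀ d, q ^ e ∣ 7920 * d → ¬ d ∣ h := by
      intro q e m hq hq8 hm hnd d hd hdh
      haveI := Fact.mk hq
      refine not_alternating_le hof (by omega) (alternating_le_of_prime h4 hn hq8 ?_)
      rw [hv q e m hq hm hnd, hGcard]
      exact hd.trans (Nat.mul_dvd_mul_left _ hdh)
    have h5' := hnot 5 2 1596672 (by norm_num) (by norm_num) (by norm_num [Nat.factorial]) (by norm_num) 5 (by norm_num)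
    have h7' := hnot 7 1 5702400 (by norm_num) (by norm_num) (by norm_num [Nat.factorial]) (by norm_num) 7 (by norm_num)
    have h9' := hnot 3 4 492800 (by norm_num) (by norm_num) (by norm_num [Nat.factorial]) (by norm_num) 9 (by norm_num)
    have hc5 : Nat.Coprime h 5 := ((by norm_num : Nat.Prime 5).coprime_iff_not_dvd.mpr h5').symm
    have hc7 : Nat.Coprime h 7 := ((by norm_num : Nat.Prime 7).coprime_iff_not_dvd.mpr h7').symm
    have hc2 : Nat.Coprime h 16 := by
      have : Nat.Coprime h 2 := Nat.coprime_two_right.mpr hodd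
      exact this.pow_right 4
    have h9d : h ∣ 9 := by
      have e : 5040 = 9 * (5 * 7 * 16) := by norm_num
      exact ((hc5.mul_right hc7).mul_right hc2).dvd_of_dvd_mul_right (e ▸ h1)
    have h9le := Nat.le_of_dvd (by norm_num) h9d
    have h3 : h = 1 ∨ h = 3 := by
      interval_cases h <;> first | omega | norm_num at h9d | exact absurd dvd_rfl h9'
    rcases h3 with h3 | h3
    · rw [hGcard, h3]
    · exact (order_ne_23760 h4 hn (by rw [hGcard, h3])).elim

end Cfsg.Agent.Lib.FourOdd
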